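import Cfsg.Agent.TwoComponents73.Law
import Cfsg.Agent.TwoDegrees73.Basic
import Cfsg.Agent.DegreeGraph.Basic
import Cfsg.Agent.Glauberman.Constituent
import Cfsg.Agent.PrincipalBlock.Kernel
import Cfsg.Agent.SameDegree.Basic

/-!
# An automorphism fixing all nonlinear characters: the setting and the associated systems
-/

set_option autoImplicit false
set_option linter.style.haveILetI false
set_option linter.unusedSectionVars false

namespace CfsgLib.TwoComponents73

open CfsgLib.Characters CfsgLib.OddOrderChar CfsgLib.CharactersDeep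
open scoped ComplexConjugate commutatorElement

universe u

variable {N : Type u} [Group N]

instance finite_hom {S : Type*} [Group S] [Finite S] : Finite (S →* ℂˣ) :=
  haveI := Fintype.ofFinite S
  Finite.of_equiv _ (linearCharEquiv (G := S)).symm

theorem eq_of_forall_lin {A : Type*} [CommGroup A] [Finite A] {a b : A}
    (h : ∀ l : A →* ℂˣ, l a = l b) : a = b := by
  by_contra hne
  haveI : NeZero (Monoid.exponent A : ℂ) :=
    ⟨Nat.cast_ne_zero.2 Monoid.exponent_ne_zero_of_finite⟩
  obtain ⟨φ, hφ⟩ := CommGroup.exists_apply_ne_one_of_hasEnoughRootsOfUnity A ℂ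
    (a := a / b) (fun e => hne (div_eq_one.mp e))
  exact hφ (by rw [map_div, h, div_self'])

/-- A linear character separating an element from a subgroup containing the derived subgroup. -/
theorem exists_lin {A : Type*} [Group A] [Finite A] (L : Subgroup A) (hL : commutator A ≤ L)
    {a : A} (ha : a ∉ L) : ∃ l : A →* ℂˣ, (∀ s ∈ L, l s = 1) ∧ l a ≠ 1 := by
  haveI := Subgroup.Normal.of_commutator_le _ hL
  letI : CommGroup (A ⧸ L) :=
    { (inferInstance : Group (A ⧸ L)) with
      mul_comm := fun x y => QuotientGroup.induction_on x fun x => QuotientGroup.induction_on y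
        fun y => QuotientGroup.eq.mpr (hL (by
          have e : (x * y)⁻¹ * (y * x) = ⁅y⁻¹, x⁻¹⁆ := by group
          rw [e]
          exact Subgroup.commutator_mem_commutator (Subgroup.mem_top _) (Subgroup.mem_top _))) }
  by_contra hno
  push Not at hno
  refine ha ((QuotientGroup.eq_one_iff a).mp (eq_of_forall_lin (b := 1) fun l => ?_))
  rw [map_one]
  exact hno (l.comp (QuotientGroup.mk' L)) fun s hs => by
    rw [MonoidHom.comp_apply, QuotientGroup.mk'_apply, (QuotientGroup.eq_one_iff s).mpr hs, map_one]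

section Action

variable (S : Subgroup N) [hS : S.Normal]

/-- The action on linear characters of a normal subgroup. -/
def cact (n : N) : (S →* ℂˣ) →* (S →* ℂˣ) where
  toFun l := l.comp (MulAut.conjNormal (H := S) n⁻¹).toMonoidHom
  map_one' := rfl
  map_mul' _ _ := rfl

theorem cact_apply (n : N) (l : S →* ℂˣ) (s : S) :
    cact S n l s = l ⟨n⁻¹ * s * n, by simpa using hS.conj_mem s s.2 n⁻¹⟩ :=
  congrArg l (Subtype.ext (by simp [MulAut.conjNormal_apply]))

theorem cact_one (l : S →* ℂˣ) : cact S 1 l = l :=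
  MonoidHom.ext fun s => (cact_apply S 1 l s).trans (congrArg l (Subtype.ext (by simp)))

theorem cact_mul (a b : N) (l : S →* ℂˣ) : cact S (a * b) l = cact S a (cact S b l) :=
  MonoidHom.ext fun s => by
    rw [cact_apply, cact_apply, cact_apply]
    exact congrArg l (Subtype.ext (by simp [mul_assoc]))

theorem cact_eq_iff [Fintype N] {n : N} {l : S →* ℂˣ} :
    cact S n l = l ↔ n ∈ TwoDegrees73.stab S l := by
  rw [← (TwoDegrees73.stab S l).inv_mem_iff, TwoDegrees73.mem_stab, MonoidHom.ext_iff]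
  refine forall_congr' fun s => ?_
  rw [cact_apply]
  exact Iff.of_eq (congrArg (fun z => l z = l s) (Subtype.ext (by simp)))

theorem cact_self (s : S) (l : S →* ℂˣ) : cact S s l = l :=
  MonoidHom.ext fun t => by
    rw [cact_apply, show (⟨(s : N)⁻¹ * t * s, _⟩ : S) = s⁻¹ * t * s from Subtype.ext rfl,
      map_mul, map_mul, map_inv, mul_comm, mul_inv_cancel_left]

/-- Restriction of an automorphism to an invariant subgroup. -/
noncomputable def restrAut [Finite N] (φ : MulAut N) (h : ∀ s ∈ S, φ s ∈ S) : MulAut S :=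
  MulEquiv.ofBijective ((φ.toMonoidHom.comp S.subtype).codRestrict S fun s => h s s.2)
    (Finite.injective_iff_bijective.mp fun _ _ e =>
      Subtype.ext (φ.injective (congrArg Subtype.val e)))

theorem restrAut_apply [Finite N] (φ : MulAut N) (h : ∀ s ∈ S, φ s ∈ S) (s : S) :
    (restrAut S φ h s : N) = φ s := rfl

theorem restrAut_symm_apply [Finite N] (φ : MulAut N) (h : ∀ s ∈ S, φ s ∈ S) (s : S) :
    ((restrAut S φ h).symm s : N) = φ.symm s := by
  apply φ.injective
  rw [φ.apply_symm_apply, ← restrAut_apply S φ h, MulEquiv.apply_symm_apply]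

/-- The induced map on linear characters. -/
noncomputable def sact [Finite N] (φ : MulAut N) (h : ∀ s ∈ S, φ s ∈ S) :
    (S →* ℂˣ) →* (S →* ℂˣ) where
  toFun l := l.comp (restrAut S φ h).symm.toMonoidHom
  map_one' := rfl
  map_mul' _ _ := rfl

theorem sact_apply [Finite N] (φ : MulAut N) (h : ∀ s ∈ S, φ s ∈ S) (l : S →* ℂˣ) (s : S) :
    sact S φ h l s = l ((restrAut S φ h).symm s) := rfl

theorem sact_cact [Finite N] (φ : MulAut N) (h : ∀ s ∈ S, φ s ∈ S) (n : N) (l : S →* ℂˣ) :
    sact S φ h (cact S n l) = cact S (φ n) (sact S φ h l) :=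
  MonoidHom.ext fun s => by
    rw [sact_apply, cact_apply, cact_apply, sact_apply]
    refine congrArg l (Subtype.ext ?_)
    simp only [restrAut_symm_apply, map_mul, map_inv, φ.symm_apply_apply]

end Action

/-- The hypotheses: `φ` normalises an abelian complement `D` of the derived subgroup, induces
there an automorphism of prime order `h`, fixes every nonlinear character, whose degree is prime
to `h`, and no nonlinear degree divides a larger one. -/
structure Hyp (N : Type u) [Group N] [Fintype N] (D : Subgroup N) (φ : MulAut N) (h : ℕ) :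
    Prop where
  prime : h.Prime
  comm : ∀ a ∈ D, ∀ b ∈ D, a * b = b * a
  inf : D ⊓ commutator N = ⊥
  sup : D ⊔ commutator N = ⊤
  map_D : ∀ d ∈ D, φ d ∈ D
  pow : ∃ k, ∀ n, (⇑φ)^[h ^ k] n = n
  pow_D : ∀ d ∈ D, (⇑φ)^[h] d = d
  ne : ∃ d ∈ D, φ d ≠ d
  inv : ∀ ψ : N → ℂ, Cfsg.IsIrrCharacter N ψ → ψ 1 ≠ 1 → (fun n => ψ (φ n)) = ψ
  cop : ∀ (ψ : N → ℂ) (d : ℕ), Cfsg.IsIrrCharacter N ψ → ψ 1 = d → d ≠ 1 → ¬ h ∣ d
  nd : ∀ (ψ ψ' : N → ℂ) (a b : ℕ), Cfsg.IsIrrCharacter N ψ → Cfsg.IsIrrCharacter N ψ' →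
    ψ 1 = a → ψ' 1 = b → 1 < a → a < b → ¬ a ∣ b

/-- A subgroup with its commutativity as a `CommGroup`. -/
@[reducible] def commGroupOf {D : Subgroup N} (h : ∀ a ∈ D, ∀ b ∈ D, a * b = b * a) :
    CommGroup D :=
  { (inferInstance : Group D) with mul_comm := fun a b => Subtype.ext (h a a.2 b b.2) }

namespace Hyp

variable [Fintype N] {D : Subgroup N} {φ : MulAut N} {h : ℕ} (H : Hyp N D φ h)

include H

theorem exists_decomp (n : N) : ∃ r ∈ commutator N, ∃ d ∈ D, n = r * d := by
  have : n ∈ (commutator N ⊔ D : Subgroup N) := by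
    rw [sup_comm, H.sup]; exact Subgroup.mem_top n
  obtain ⟨r, hr, d, hd, e⟩ := Subgroup.mem_sup_of_normal_left.mp this
  exact ⟨r, hr, d, hd, e.symm⟩

theorem eq_one_of_mem {n : N} (h1 : n ∈ D) (h2 : n ∈ commutator N) : n = 1 := by
  have : n ∈ D ⊓ commutator N := ⟨h1, h2⟩
  rwa [H.inf, Subgroup.mem_bot] at this

theorem map_commutator' {n : N} (hn : n ∈ commutator N) : φ n ∈ commutator N :=
  by
  have e := Subgroup.characteristic_iff_comap_eq.mp (inferInstance : (commutator N).Characteristic) φ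
  rw [← e] at hn
  exact hn

/-- Nonlinear characters vanish at the elements of `D` moved by `φ`. -/
theorem vanish {d : N} (hd : d ∈ D) (hne : φ d ≠ d) {ψ : N → ℂ}
    (hψ : Cfsg.IsIrrCharacter N ψ) (h1 : ψ 1 ≠ 1) : ψ d = 0 := by
  have hnot : φ d * d⁻¹ ∉ commutator N := fun hc =>
    hne (mul_inv_eq_one.mp (H.eq_one_of_mem (D.mul_mem (H.map_D d hd) (D.inv_mem hd)) hc))
  obtain ⟨l, -, hl⟩ := exists_lin (commutator N) le_rfl hnot
  obtain ⟨c, -, hc⟩ := exists_degree_pos hψ
  have htw := congrFun (H.inv _ (Glauberman.isIrr_mul_hom hψ l) (by simpa using h1)) d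
  have hp := congrFun (H.inv ψ hψ h1) d
  rw [hp] at htw
  by_contra h0
  refine hl ?_
  have e : l (φ d) = l d := by
    apply Units.ext
    rcases mul_eq_mul_right_iff.mp (show (l (φ d) : ℂ) * ψ d = (l d : ℂ) * ψ d by
      simpa [mul_comm] using htw) with e | e
    · exact e
    · exact absurd e h0
  rw [map_mul, map_inv, e, mul_inv_cancel]

theorem card_D : Nat.card D = (commutator N).index := by
  refine (Subgroup.IsComplement'.index_eq_card ?_).symm
  refine Subgroup.isComplement'_of_disjoint_and_mul_eq_univ (disjoint_iff.mpr H.inf) ?_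
  rw [← Subgroup.mul_normal, H.sup, Subgroup.coe_top]

/-- The elements of `D` moved by `φ` centralise no nontrivial element of the derived subgroup. -/
theorem fixed_point_free {d : N} (hd : d ∈ D) (hne : φ d ≠ d) {r : N}
    (hr : r ∈ commutator N) (hc : r * d = d * r) : r = 1 := by
  classical
  have hcard : Nat.card (Subgroup.centralizer ({d} : Set N)) = Nat.card D := by
    apply Nat.cast_injective (R := ℂ)
    rw [← sum_irr_mul_conj_of_isConj (IsConj.refl d), H.card_D, ← card_linear_char,
      ← Finset.sum_filter_add_sum_filter_not Finset.univ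
        (fun χ : Cfsg.IrrCharacter N => (χ : N → ℂ) 1 = 1),
      Finset.sum_eq_zero (s := Finset.univ.filter fun χ : Cfsg.IrrCharacter N => ¬ (χ : N → ℂ) 1 = 1)
        (fun χ hχ => by rw [H.vanish hd hne χ.2 (Finset.mem_filter.mp hχ).2, zero_mul]),
      add_zero, Finset.sum_congr rfl (g := fun _ => (1 : ℂ)) fun χ hχ => ?_, Finset.sum_const,
      nsmul_one, Nat.card_eq_fintype_card, Fintype.card_subtype]
    obtain ⟨l, hl⟩ := exists_hom_of_degree_one (isCharacter_of_isIrr χ.2)
      (Finset.mem_filter.mp hχ).2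
    rw [hl, ← character_inv (LinearChar.isCharacter_hom l), ← Units.val_mul, ← map_mul,
      mul_inv_cancel, map_one, Units.val_one]
  have hle : D ≤ Subgroup.centralizer ({d} : Set N) := fun e he =>
    Subgroup.mem_centralizer_singleton_iff.mpr (H.comm e he d hd)
  have heq : D = Subgroup.centralizer ({d} : Set N) :=
    Subgroup.eq_of_le_of_card_ge hle hcard.le
  refine H.eq_one_of_mem ?_ hr
  rw [heq]
  exact Subgroup.mem_centralizer_singleton_iff.mpr hc

/-- The elements of `D` moved by `φ` act without fixed points on normal subgroups of the derived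
subgroup, hence on their linear characters. -/
theorem cact_fpf (S : Subgroup N) [hS : S.Normal] (hSR : S ≤ commutator N) {d : N} (hd : d ∈ D)
    (hne : φ d ≠ d) {l : S →* ℂˣ} (hl : cact S d l = l) : l = 1 := by
  have hd' : φ d⁻¹ ≠ d⁻¹ := fun e => hne (inv_injective (by rwa [← map_inv]))
  let δ : S → S := fun s => ⟨d⁻¹ * s * d, by simpa using hS.conj_mem s s.2 d⁻¹⟩ * s⁻¹
  have hinj : Function.Injective δ := by
    intro s t e
    have e1 : d⁻¹ * (s : N) * d * (s : N)⁻¹ = d⁻¹ * t * d * (t : N)⁻¹ := congrArg Subtype.val e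
    have e2 : (t : N)⁻¹ * s * d = d * ((t : N)⁻¹ * s) := by
      calc (t : N)⁻¹ * s * d = (t : N)⁻¹ * d * (d⁻¹ * s * d * (s : N)⁻¹) * s := by group
        _ = (t : N)⁻¹ * d * (d⁻¹ * t * d * (t : N)⁻¹) * s := by rw [e1]
        _ = _ := by group
    exact Subtype.ext (inv_mul_eq_one.mp
      (H.fixed_point_free hd hne (hSR (S.mul_mem (S.inv_mem t.2) s.2)) e2)).symm
  refine MonoidHom.ext fun u => ?_
  obtain ⟨s, rfl⟩ := (Finite.injective_iff_surjective.mp hinj) u
  rw [MonoidHom.one_apply, map_mul, map_inv, ← cact_apply S d l s, hl, mul_inv_cancel]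

/-- The automorphism induced on `D`. -/
noncomputable def γ : MulAut D := restrAut D φ H.map_D

theorem γ_apply (d : D) : (H.γ d : N) = φ d := rfl

theorem γ_ne_iff {d : D} : H.γ d ≠ d ↔ φ d ≠ d :=
  not_congr (by rw [← Subtype.coe_inj]; rfl)

/-- **The systems.** -/
theorem exists_sys (S : Subgroup N) [hS : S.Normal] (hSR : S ≤ commutator N)
    (hφS : ∀ s ∈ S, φ s ∈ S) (X : Subgroup (S →* ℂˣ))
    (hXR : ∀ l ∈ X, ∀ r ∈ commutator N, cact S r l = l)
    (hXτ : ∀ d ∈ D, ∀ l ∈ X, cact S d l ∈ X) (hXσ : ∀ l ∈ X, sact S φ hφS l ∈ X) :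
    letI := commGroupOf H.comm
    ∃ A : Sys D X, (∀ d x, (A.τ d x : S →* ℂˣ) = cact S d x) ∧ A.γ = H.γ := by
  letI := commGroupOf H.comm
  haveI := Fintype.ofFinite S
  let τ : D → X →* X := fun d => ((cact S (d : N)).comp X.subtype).codRestrict X
    fun x => hXτ d d.2 x x.2
  let σ : X →* X := ((sact S φ hφS).comp X.subtype).codRestrict X fun x => hXσ x x.2
  have hit : ∀ (i : ℕ) (x : X) (s : S), ∃ t : S, (⇑φ)^[i] (t : N) = s ∧
      ((⇑σ)^[i] x : S →* ℂˣ) s = (x : S →* ℂˣ) t := by
    intro i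
    induction i with
    | zero => intro x s; exact ⟨s, rfl, rfl⟩
    | succ i ih =>
      intro x s
      obtain ⟨t, ht, hx⟩ := ih x ((restrAut S φ hφS).symm s)
      refine ⟨t, ?_, ?_⟩
      · rw [Function.iterate_succ_apply', ht, restrAut_symm_apply, φ.apply_symm_apply]
      · rw [Function.iterate_succ_apply', ← hx]
        rfl
  refine ⟨{
    τ := τ
    σ := σ
    γ := H.γ
    h := h
    hprime := H.prime
    τ_one := fun x => Subtype.ext (cact_one S _)
    τ_mul := fun d e x => Subtype.ext (cact_mul S _ _ _)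
    σ_pow := H.pow.imp fun k hk x => Subtype.ext <| MonoidHom.ext fun s => by
      obtain ⟨t, ht, hx⟩ := hit (h ^ k) x s
      rw [hk] at ht
      rw [hx, Subtype.ext ht]
    γ_pow := fun d => by
      have hc : ∀ i, (((⇑H.γ)^[i] d : D) : N) = (⇑φ)^[i] (d : N) := fun i => by
        induction i with
        | zero => rfl
        | succ i ih => rw [Function.iterate_succ_apply', Function.iterate_succ_apply', ← ih]; rfl
      exact Subtype.ext ((hc h).trans (H.pow_D d d.2))
    γ_ne := by
      obtain ⟨d, hd, hne⟩ := H.ne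
      exact ⟨⟨d, hd⟩, H.γ_ne_iff.mpr hne⟩
    comm := fun d x => Subtype.ext (sact_cact S φ hφS d x)
    fpf := fun d hd x hx => Subtype.ext
      (H.cact_fpf S hSR d.2 (H.γ_ne_iff.mp hd) (congrArg Subtype.val hx))
    orbit := fun x => ?_
    coprime := fun x hx => ?_ }, fun d x => rfl, rfl⟩
  · -- every orbit is invariant
    by_cases hx : x = 1
    · exact ⟨1, by rw [hx, map_one, map_one]⟩
    obtain ⟨ψ, hψ, hcon⟩ := CharactersDeep.Clifford.exists_over S (isIrr_linChar (x : S →* ℂˣ))
    have hnl : ψ 1 ≠ 1 := by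
      intro h1
      refine hx (Subtype.ext (MonoidHom.ext fun s => ?_))
      by_contra hne
      refine hcon (classInner_isIrr_ne ?_ (isIrr_linChar _) fun e => hne ?_)
      · convert isIrr_one (G := S) using 1
        funext s
        exact SameDegree.linear_commutator hψ h1 (hSR s.2) |>.trans h1
      · apply Units.ext
        rw [← congrFun e s, SameDegree.linear_commutator hψ h1 (hSR s.2), h1]
        rfl
    have hψ' : ∀ n, ψ (φ.symm n) = ψ n := fun n => by
      have := congrFun (H.inv ψ hψ hnl) (φ.symm n)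
      simp only [MulEquiv.apply_symm_apply] at this
      exact this.symm
    have hcon' : Cfsg.classInner (fun s : S => ψ s)
        (fun s => ((σ x : S →* ℂˣ) s : ℂ)) ≠ 0 := by
      rw [← show (fun s : S => (fun t : S => ψ t) ((restrAut S φ hφS).symm s)) = fun s : S => ψ s
        from funext fun s => by
          show ψ ((restrAut S φ hφS).symm s : N) = _
          rw [restrAut_symm_apply, hψ']]
      exact (Clifford.classInner_comp_equiv (restrAut S φ hφS).symm (fun s : S => ψ s)
        (fun s => ((x : S →* ℂˣ) s : ℂ))).trans_ne hcon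
    obtain ⟨n, hn⟩ := CharactersDeep.Clifford.exists_conjBy_of_constituents S hψ
      (isIrr_linChar (x : S →* ℂˣ)) (isIrr_linChar (σ x : S →* ℂˣ)) hcon hcon'
    obtain ⟨r, hr, d, hd, e⟩ := H.exists_decomp n⁻¹
    refine ⟨⟨d, hd⟩, Subtype.ext ?_⟩
    show (σ x : S →* ℂˣ) = cact S d x
    rw [← hXR _ (hXτ d hd x x.2) r hr, ← cact_mul, ← e]
    refine MonoidHom.ext fun s => Units.ext ?_
    rw [congrFun hn s, cact_apply]
    exact congrArg (fun z : S => ((x : S →* ℂˣ) z : ℂ)) (Subtype.ext (by simp))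
  · -- orbit sizes are prime to `h`
    obtain ⟨ψ, hψ, hcon⟩ := CharactersDeep.Clifford.exists_over S (isIrr_linChar (x : S →* ℂˣ))
    have hR : commutator N ≤ TwoDegrees73.stab S (x : S →* ℂˣ) := fun r hr =>
      (cact_eq_iff S).mp (hXR x x.2 r hr)
    haveI := Subgroup.Normal.of_commutator_le _ hR
    have h1 := clifford_degree S hψ (isIrr_linChar (x : S →* ℂˣ)) _
      (fun g => TwoDegrees73.mem_stab_iff_conjBy S) hcon
    obtain ⟨e, he⟩ := classInner_character_irr (isCharacter_restrict S (isCharacter_of_isIrr hψ))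
      (isIrr_linChar (x : S →* ℂˣ))
    rw [he, map_one, Units.val_one, mul_one, ← Nat.cast_mul] at h1
    refine ⟨(TwoDegrees73.stab S (x : S →* ℂˣ)).index, fun hd => ?_, fun d => Subtype.ext
      ((cact_eq_iff S).mpr (Subgroup.pow_index_mem (TwoDegrees73.stab S (x : S →* ℂˣ)) (d : N)))⟩
    by_cases h11 : e * (TwoDegrees73.stab S (x : S →* ℂˣ)).index = 1
    · rw [Nat.eq_one_of_mul_eq_one_left h11] at hd
      exact H.prime.ne_one (Nat.dvd_one.mp hd)
    · exact H.cop ψ _ hψ h1 h11 (hd.trans (dvd_mul_left _ _))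

end Hyp

end CfsgLib.TwoComponents73
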