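import Cfsg.Agent.DegreeGraph.Components
import Cfsg.Agent.TwoDegrees73.Basic
import Cfsg.Agent.S0867
import Cfsg.Agent.Coherence.IrrAbove

/-!
# A nonabelian `q`-quotient with all nonlinear degrees divisible by `q` and no divisibility
-/

set_option autoImplicit false
set_option linter.style.haveILetI false
set_option linter.unusedSectionVars false

namespace CfsgLib.TwoComponents73

open CfsgLib.Characters CfsgLib.OddOrderChar CfsgLib.CharactersDeep
open scoped ComplexConjugate commutatorElement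

universe u

variable {N : Type u} [Group N] [Fintype N]

/-- With a normal `q`-complement, nonabelian quotient, all nonlinear degrees divisible by `q` and
none dividing a larger one, there is only one nonlinear degree. -/
theorem unique_degree_of_quotient_nonabelian {q : ℕ} (hq : q.Prime) (M : Subgroup N) [M.Normal]
    (hMq : ¬ q ∣ Nat.card M) {n : ℕ} (hn : M.index = q ^ n)
    (hne : ∃ a b : N, ⁅a, b⁆ ∉ M)
    (hdiv : ∀ c ∈ Cfsg.charDegrees N, c ≠ 1 → q ∣ c)
    (hnd : ∀ a ∈ Cfsg.charDegrees N, ∀ b ∈ Cfsg.charDegrees N, 1 < a → a < b → ¬ a ∣ b)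
    {c c' : ℕ} (hc : c ∈ Cfsg.charDegrees N) (hc' : c' ∈ Cfsg.charDegrees N) (h1 : c ≠ 1)
    (h1' : c' ≠ 1) : c = c' := by
  classical
  have heq : ∀ a ∈ Cfsg.charDegrees N, ∀ b ∈ Cfsg.charDegrees N, 1 < a → 1 < b → a ∣ b →
      a = b := fun a ha b hb ha1 hb1 hab =>
    (Nat.le_of_dvd (by omega) hab).eq_or_lt.resolve_right fun h => hnd a ha b hb ha1 h hab
  obtain ⟨j₀, hj₀, hmem⟩ := DegreeGraph.exists_prime_pow_degree hq M hn hne
  set Qd := q ^ j₀ with hQd
  have hQ : Qd ∈ Cfsg.charDegrees N := DegreeGraph.charDegrees_quotient_subset M hmem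
  have hQ1 : 1 < Qd := Nat.one_lt_pow hj₀.ne' hq.one_lt
  -- powers of `q` among the degrees
  have hpow : ∀ i, 0 < i → q ^ i ∈ Cfsg.charDegrees N → i = j₀ := by
    intro i hi hmem'
    have h1i : 1 < q ^ i := Nat.one_lt_pow hi.ne' hq.one_lt
    refine Nat.pow_right_injective hq.two_le (show q ^ i = q ^ j₀ from ?_)
    rcases le_total i j₀ with h | h
    · exact heq _ hmem' _ hQ h1i hQ1 (pow_dvd_pow q h)
    · exact (heq _ hQ _ hmem' hQ1 h1i (pow_dvd_pow q h)).symm
  suffices key : ∀ b ∈ Cfsg.charDegrees N, b ≠ 1 → b = Qd by rw [key c hc h1, key c' hc' h1']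
  intro b hb hb1
  by_contra hbQ
  have hb2 : 1 < b := by
    have := DegreeGraph.pos_of_mem hb
    omega
  obtain ⟨χ, hχ, hχ1, -⟩ := DegreeGraph.exists_of_mem hb
  haveI := Fintype.ofFinite M
  obtain ⟨θ, hθ, hcon⟩ := DegreeGraph.exists_under M hχ
  obtain ⟨d, k, hd, rfl, hk, hd0⟩ := DegreeGraph.exists_ratio M hχ hθ hcon hχ1
  rw [hn] at hk
  obtain ⟨i, -, rfl⟩ := (Nat.dvd_prime_pow hq).mp hk
  have hd1 : d ≠ 1 := by
    rintro rfl
    rw [one_mul] at hbQ hb hb1
    exact hbQ (by rw [hQd, hpow i (Nat.pos_of_ne_zero fun e => hb1 (by rw [e, pow_zero])) hb])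
  have hi : i < j₀ := by
    by_contra hle
    push Not at hle
    exact hbQ (heq _ hQ _ hb hQ1 hb2 (dvd_mul_of_dvd_right (pow_dvd_pow q hle) d)).symm
  have hdcop : ¬ q ∣ d := by
    intro hqd
    obtain ⟨m, ρ, hρ, hρθ⟩ := id hθ
    haveI := hρ
    have h2 := finrank_dvd_card ρ
    rw [Module.finrank_fin_fun] at h2
    have hm : m = d := by
      rw [← hρθ, Representation.char_one, Module.finrank_fin_fun] at hd
      exact_mod_cast hd
    exact hMq (hqd.trans (hm ▸ h2))
  -- the inertia group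
  let T : Subgroup N :=
    { carrier := {g | conjBy M θ g = θ}
      one_mem' := conjBy_one _ θ
      mul_mem' := fun {a b} (ha : conjBy M θ a = θ) (hb : conjBy M θ b = θ) => by
        show conjBy M θ (a * b) = θ
        rw [← conjBy_mul, ha, hb]
      inv_mem' := fun {a} (ha : conjBy M θ a = θ) => by
        show conjBy M θ a⁻¹ = θ
        conv_lhs => rw [← ha]
        rw [conjBy_mul, mul_inv_cancel, conjBy_one] }
  have hMT : M ≤ T := inertia_le M (isClassFunction_of_isIrr hθ) T fun g => Iff.rfl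
  have hTi : T.index ∣ q ^ i := by
    have h2 := clifford_degree M hχ hθ T (fun g => Iff.rfl) hcon
    obtain ⟨e, he⟩ := classInner_character_irr (isCharacter_restrict M (isCharacter_of_isIrr hχ)) hθ
    rw [he, hχ1, hd, ← Nat.cast_mul, ← Nat.cast_mul, Nat.cast_inj] at h2
    exact ⟨e, Nat.eq_of_mul_eq_mul_left hd0 (by rw [h2]; ring)⟩
  obtain ⟨j, hji, hj⟩ := (Nat.dvd_prime_pow hq).mp hTi
  have hcomm : commutator N ≤ T := by
    haveI := Fintype.ofFinite (N ⧸ M)
    have hidx : (T.map (QuotientGroup.mk' M)).index = T.index :=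
      Subgroup.index_map_eq T (QuotientGroup.mk'_surjective M) (by rwa [QuotientGroup.ker_mk'])
    have h2 := TwoDegrees73.commutator_le_of_index_le (T.map (QuotientGroup.mk' M))
      fun β e hβ he he1 => by
        have he' : e ∈ Cfsg.charDegrees (N ⧸ M) := DegreeGraph.mem_charDegrees hβ he
        obtain ⟨m, ρ, hρ, rfl⟩ := id hβ
        haveI := hρ
        have h3 := finrank_dvd_card ρ
        rw [Module.finrank_fin_fun, ← Subgroup.index_eq_card, hn] at h3
        obtain ⟨e', -, rfl⟩ := (Nat.dvd_prime_pow hq).mp h3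
        have hee : e = q ^ e' := by
          rw [Representation.char_one, Module.finrank_fin_fun] at he
          exact_mod_cast he.symm
        rw [hidx, hj, hee, hpow e' (Nat.pos_of_ne_zero fun z => he1 (by rw [hee, z, pow_zero]))
          (DegreeGraph.charDegrees_quotient_subset M (hee ▸ he'))]
        exact Nat.pow_le_pow_right hq.pos (by omega)
    intro g hg
    have h3 : QuotientGroup.mk' M g ∈ T.map (QuotientGroup.mk' M) := by
      refine h2 ?_
      have : (commutator N).map (QuotientGroup.mk' M) ≤ commutator (N ⧸ M) := by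
        rw [commutator_def, Subgroup.map_commutator, commutator_def]
        exact Subgroup.commutator_mono le_top le_top
      exact this (Subgroup.mem_map_of_mem _ hg)
    have h4 : g ∈ (T.map (QuotientGroup.mk' M)).comap (QuotientGroup.mk' M) := h3
    rwa [Subgroup.comap_map_eq_self (by rwa [QuotientGroup.ker_mk'])] at h4
  haveI := Subgroup.Normal.of_commutator_le _ hcomm
  haveI := Fintype.ofFinite T
  set M' := M.subgroupOf T with hM'
  haveI := Fintype.ofFinite M'
  -- `θ` extends to its inertia group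
  have hθ' : Cfsg.IsIrrCharacter M' (onSubgroupOf M T θ) := isIrr_onSubgroupOf M T hMT hθ
  obtain ⟨η, ⟨hη, hηM, -⟩, -⟩ := Cfsg.Agent.S0867.result M' (onSubgroupOf M T θ) hθ'
    (fun t m => congrFun (onSubgroupOf_invariant M T (fun g => Iff.rfl) t) m) d (by
      simp only [onSubgroupOf]
      rw [← hd]
      rfl) (by
      have hidx : M'.index ∣ q ^ n := hn ▸ Subgroup.relIndex_dvd_index_of_normal M T
      refine Nat.Coprime.coprime_dvd_left hidx (Nat.Coprime.mul_right ?_ ?_)
      · refine Nat.Coprime.pow_left n ((hq.coprime_iff_not_dvd).mpr fun h => hMq (h.trans ?_))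
        obtain ⟨m, ρ, hρ, hρθ⟩ := id hθ'
        rw [← hρθ, LinearChar.detOrder_eq]
        refine (orderOf_dvd_of_pow_eq_one (MonoidHom.ext fun x => ?_)).trans
          (Nat.card_congr (Subgroup.subgroupOfEquivOfLe hMT).toEquiv).dvd
        rw [MonoidHom.pow_apply, ← map_pow, pow_card_eq_one', map_one]
        rfl
      · exact Nat.Coprime.pow_left n ((hq.coprime_iff_not_dvd).mpr hdcop))
  -- a nonlinear character of the quotient below the big one
  haveI := Fintype.ofFinite (N ⧸ M)
  obtain ⟨β, hβ, hβ1, -⟩ := DegreeGraph.exists_of_mem hmem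
  let β' : N → ℂ := fun g => β g
  have hβ' : Cfsg.IsIrrCharacter N β' :=
    isIrr_comp (QuotientGroup.mk' M) (QuotientGroup.mk'_surjective M) hβ
  obtain ⟨ε, hε, hεcon⟩ := DegreeGraph.exists_under T hβ'
  obtain ⟨δ, k', hδ, hδk, hk', -⟩ := DegreeGraph.exists_ratio T hβ' hε hεcon (c := Qd)
    (by show β ((1 : N) : N ⧸ M) = _; rw [QuotientGroup.mk_one]; exact hβ1)
  rw [hj] at hk'
  obtain ⟨l, hlj, rfl⟩ := (Nat.dvd_prime_pow hq).mp hk'
  have hδ1 : 1 < δ := by
    rcases Nat.lt_or_ge 1 δ with h | h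
    · exact h
    · exfalso
      have hle : Qd ≤ q ^ l := by rw [hδk]; simpa using Nat.mul_le_mul_right (q ^ l) h
      have := (Nat.pow_le_pow_iff_right hq.one_lt).mp (hQd ▸ hle)
      omega
  -- `ε` is trivial on `M`
  have hεM : ∀ x ∈ M', ε x = ε 1 := fun x hx =>
    Coherence.constituent_trivial (isCharacter_restrict T (isCharacter_of_isIrr hβ')) hε hεcon (by
      show β ((x : N) : N ⧸ M) = β (((1 : T) : N) : N ⧸ M)
      rw [(QuotientGroup.eq_one_iff (x : N)).mpr (Subgroup.mem_subgroupOf.mp hx),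
        OneMemClass.coe_one, QuotientGroup.mk_one])
  obtain ⟨γ, hγ, hγv⟩ := exists_irr_quotient M' hε hεM
  haveI := Fintype.ofFinite (T ⧸ M')
  have hres : Cfsg.IsIrrCharacter M' fun m : M' => η m := by
    rw [show (fun m : M' => η m) = onSubgroupOf M T θ from funext hηM]
    exact hθ'
  have hη1 : η 1 = d := by
    have := hηM 1
    rw [OneMemClass.coe_one] at this
    rw [this, ← hd]
    rfl
  have hprod := Gallagher.isIrr_prodInfl M' hη hres hγ
  -- both induce irreducibly
  have hind : ∀ ξ : T → ℂ, Cfsg.IsIrrCharacter T ξ → ∀ m : ℂ, m ≠ 0 →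
      (∀ x : M', ξ x = m * onSubgroupOf M T θ x) → Cfsg.IsIrrCharacter N (Cfsg.indFun T ξ) := by
    intro ξ hξ m hm hres'
    refine DegreeGraph.isIrr_indFun_of_stabilizer T hξ fun g hg hfix => hg ?_
    show conjBy M θ g = θ
    funext x
    have hgx : g * x * g⁻¹ ∈ M := (inferInstance : M.Normal).conj_mem x x.2 g
    have h5 := congrFun hfix ⟨x, hMT x.2⟩
    have e1 := hres' ⟨⟨x, hMT x.2⟩, Subgroup.mem_subgroupOf.mpr x.2⟩
    have e2 := hres' ⟨⟨g * x * g⁻¹, hMT hgx⟩, Subgroup.mem_subgroupOf.mpr hgx⟩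
    have h6 : ξ ⟨g * x * g⁻¹, hMT hgx⟩ = ξ ⟨x, hMT x.2⟩ := h5
    simp only at e1 e2
    rw [h6, e1] at e2
    exact (mul_left_cancel₀ hm e2).symm
  have hdeg1 : d * q ^ j ∈ Cfsg.charDegrees N :=
    DegreeGraph.mem_charDegrees (hind η hη 1 one_ne_zero fun x => by rw [one_mul]; exact hηM x)
      (by rw [CfsgLib.Characters.indFun_one, hη1, hj]; push_cast; ring)
  have hγ1 : γ ((1 : T) : T ⧸ M') = δ := by rw [← hγv, hδ]
  have hdeg2 : d * q ^ j * δ ∈ Cfsg.charDegrees N := by
    refine DegreeGraph.mem_charDegrees (hind _ hprod (δ : ℂ) (Nat.cast_ne_zero.mpr (by omega))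
      fun x => ?_) ?_
    · simp only [Gallagher.prodInfl]
      rw [hηM x, ← hγv, hεM _ x.2, hδ, mul_comm]
    · rw [CfsgLib.Characters.indFun_one, hj]
      simp only [Gallagher.prodInfl]
      rw [hη1, hγ1]
      push_cast
      ring
  have hpos : 0 < d * q ^ j := Nat.mul_pos hd0 (pow_pos hq.pos j)
  have h1d : 1 < d * q ^ j := lt_of_lt_of_le (show 1 < d by omega) (Nat.le_mul_of_pos_right d (pow_pos hq.pos j))
  exact hnd _ hdeg1 _ hdeg2 h1d (lt_mul_of_one_lt_right hpos hδ1) (dvd_mul_right _ _)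

end CfsgLib.TwoComponents73
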