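import Cfsg.Agent.TwoComponents73.Setup

/-!
# Complements from an automorphism fixing all nonlinear characters
-/

set_option autoImplicit false
set_option linter.style.haveILetI false
set_option linter.unusedSectionVars false

namespace CfsgLib.TwoComponents73

open CfsgLib.Characters CfsgLib.OddOrderChar CfsgLib.CharactersDeep
open scoped ComplexConjugate commutatorElement

universe u

variable {N : Type u} [Group N] [Fintype N]

/-- An element moved modulo the derived subgroup by an automorphism fixing all nonlinear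
characters has centraliser of order the index of the derived subgroup. -/
theorem card_centralizer_of_moved (φ : MulAut N)
    (hinv : ∀ ψ : N → ℂ, Cfsg.IsIrrCharacter N ψ → ψ 1 ≠ 1 → (fun n => ψ (φ n)) = ψ)
    {x : N} (hx : φ x * x⁻¹ ∉ commutator N) :
    Nat.card (Subgroup.centralizer ({x} : Set N)) = (commutator N).index := by
  classical
  obtain ⟨l, -, hl⟩ := exists_lin (commutator N) le_rfl hx
  have hvan : ∀ ψ : N → ℂ, Cfsg.IsIrrCharacter N ψ → ψ 1 ≠ 1 → ψ x = 0 := by
    intro ψ hψ h1
    have htw := congrFun (hinv _ (Glauberman.isIrr_mul_hom hψ l) (by simpa using h1)) x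
    rw [congrFun (hinv ψ hψ h1) x] at htw
    by_contra h0
    apply hl
    have e : l (φ x) = l x := by
      apply Units.ext
      rcases mul_eq_mul_right_iff.mp (show (l (φ x) : ℂ) * ψ x = (l x : ℂ) * ψ x by
        simpa [mul_comm] using htw) with e | e
      · exact e
      · exact absurd e h0
    rw [map_mul, map_inv, e, mul_inv_cancel]
  apply Nat.cast_injective (R := ℂ)
  rw [← sum_irr_mul_conj_of_isConj (IsConj.refl x), ← card_linear_char,
    ← Finset.sum_filter_add_sum_filter_not Finset.univ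
      (fun χ : Cfsg.IrrCharacter N => (χ : N → ℂ) 1 = 1),
    Finset.sum_eq_zero (s := Finset.univ.filter fun χ : Cfsg.IrrCharacter N => ¬ (χ : N → ℂ) 1 = 1)
      (fun χ hχ => by rw [hvan _ χ.2 (Finset.mem_filter.mp hχ).2, zero_mul]),
    add_zero, Finset.sum_congr rfl (g := fun _ => (1 : ℂ)) fun χ hχ => ?_, Finset.sum_const,
    nsmul_one, Nat.card_eq_fintype_card, Fintype.card_subtype]
  obtain ⟨f, hf⟩ := exists_hom_of_degree_one (isCharacter_of_isIrr χ.2)
    (Finset.mem_filter.mp hχ).2
  rw [hf, ← character_inv (LinearChar.isCharacter_hom f), ← Units.val_mul, ← map_mul,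
    mul_inv_cancel, map_one, Units.val_one]

/-- If a Sylow subgroup `W` meets the derived subgroup trivially and contains such a moved
element, its normaliser is an abelian complement of the derived subgroup. -/
theorem normalizer_complement {q : ℕ} [Fact q.Prime] (W : Sylow q N)
    (hW : ¬ q ∣ Nat.card (commutator N)) (φ : MulAut N)
    (hinv : ∀ ψ : N → ℂ, Cfsg.IsIrrCharacter N ψ → ψ 1 ≠ 1 → (fun n => ψ (φ n)) = ψ)
    {x : N} (hxW : x ∈ (W : Subgroup N)) (hx : φ x * x⁻¹ ∉ commutator N) :
    let D := Subgroup.normalizer ((W : Subgroup N) : Set N)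
    (∀ a ∈ D, ∀ b ∈ D, a * b = b * a) ∧ D ⊓ commutator N = ⊥ ∧ D ⊔ commutator N = ⊤ := by
  classical
  intro D
  set R := commutator N with hR
  have hWR : (W : Subgroup N) ⊓ R = ⊥ := Subgroup.inf_eq_bot_of_coprime <| by
    obtain ⟨k, hk⟩ := IsPGroup.iff_card.mp W.2
    rw [hk]
    exact (((Fact.out : q.Prime).coprime_iff_not_dvd).mpr hW).pow_left k
  set L := (W : Subgroup N) ⊔ R with hL
  haveI : L.Normal := Subgroup.Normal.of_commutator_le _ le_sup_right
  have hsup : D ⊔ R = ⊤ := by
    have h1 := Sylow.normalizer_sup_eq_top (W.subtype (le_sup_left : (W : Subgroup N) ≤ L))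
    have h2 : ((W.subtype (le_sup_left : (W : Subgroup N) ≤ L) : Subgroup L).map L.subtype) =
        (W : Subgroup N) := by
      rw [Sylow.coe_subtype, Subgroup.map_subgroupOf_eq_of_le le_sup_left]
    rw [h2] at h1
    rw [eq_top_iff, ← h1]
    exact sup_le le_sup_left (sup_le (Subgroup.le_normalizer.trans le_sup_left) le_sup_right)
  have hDx : D ≤ Subgroup.centralizer ({x} : Set N) := by
    intro n hn
    rw [Subgroup.mem_centralizer_singleton_iff]
    have h1 : n * x * n⁻¹ * x⁻¹ ∈ (W : Subgroup N) ⊓ R := by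
      refine ⟨(W : Subgroup N).mul_mem ((Subgroup.mem_normalizer_iff.mp hn x).mp hxW)
        ((W : Subgroup N).inv_mem hxW), ?_⟩
      exact Subgroup.commutator_mem_commutator (Subgroup.mem_top n) (Subgroup.mem_top x)
    rw [hWR, Subgroup.mem_bot, mul_inv_eq_one, mul_inv_eq_iff_eq_mul] at h1
    exact h1
  have hcard : Nat.card D ≤ R.index :=
    (Subgroup.card_le_of_le hDx).trans (card_centralizer_of_moved φ hinv hx).le
  let f : D →* N ⧸ R := (QuotientGroup.mk' R).comp D.subtype
  have hsurj : Function.Surjective f := by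
    intro z
    obtain ⟨n, rfl⟩ := QuotientGroup.mk_surjective z
    have hn : n ∈ D ⊔ R := hsup ▸ Subgroup.mem_top n
    obtain ⟨d, hd, r, hr, rfl⟩ := Subgroup.mem_sup_of_normal_right.mp hn
    exact ⟨⟨d, hd⟩, QuotientGroup.eq.mpr (by simpa using hr)⟩
  have hbij : Function.Bijective f :=
    (Nat.bijective_iff_surjective_and_card f).mpr ⟨hsurj, le_antisymm hcard
      (Nat.card_le_card_of_surjective f hsurj)⟩
  have hinf : D ⊓ R = ⊥ := by
    rw [eq_bot_iff]
    rintro d ⟨hd, hdR⟩
    have : (⟨d, hd⟩ : D) = 1 := hbij.1 (((QuotientGroup.eq_one_iff d).mpr hdR).trans (map_one f).symm)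
    exact Subgroup.mem_bot.mpr (congrArg Subtype.val this)
  refine ⟨fun a ha b hb => ?_, hinf, hsup⟩
  have h1 : a * b * a⁻¹ * b⁻¹ ∈ D ⊓ R :=
    ⟨D.mul_mem (D.mul_mem (D.mul_mem ha hb) (D.inv_mem ha)) (D.inv_mem hb),
      Subgroup.commutator_mem_commutator (Subgroup.mem_top a) (Subgroup.mem_top b)⟩
  rw [hinf, Subgroup.mem_bot, mul_inv_eq_one, mul_inv_eq_iff_eq_mul] at h1
  exact h1

end CfsgLib.TwoComponents73
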