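import Cfsg.Agent.TwoComponents73.Core
import Cfsg.Agent.TwoComponents73.Centralizer
import Cfsg.Agent.TwoComponents73.QuotientNonabelian
import Cfsg.Agent.S4456

/-!
# Two components and no divisibility among the degrees: three degrees
-/

set_option autoImplicit false
set_option linter.style.haveILetI false
set_option linter.unusedSectionVars false

namespace CfsgLib.TwoComponents73

open CfsgLib.Characters CfsgLib.OddOrderChar CfsgLib.CharactersDeep
open scoped ComplexConjugate commutatorElement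

universe u

variable {G : Type u} [Group G] [Fintype G]

/-- A vertex reachable from all others contradicts two components. -/
theorem false_of_reach
    (htwo : Nat.card ((Cfsg.degreeGraph G).induce (Cfsg.degreePrimes G)).ConnectedComponent = 2)
    (w : Cfsg.degreePrimes G)
    (hw : ∀ v, ((Cfsg.degreeGraph G).induce (Cfsg.degreePrimes G)).Reachable v w) : False := by
  haveI : Subsingleton ((Cfsg.degreeGraph G).induce (Cfsg.degreePrimes G)).ConnectedComponent :=
    ⟨fun a b => by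
      induction a using SimpleGraph.ConnectedComponent.ind with
      | _ u =>
        induction b using SimpleGraph.ConnectedComponent.ind with
        | _ v => exact SimpleGraph.ConnectedComponent.sound ((hw u).trans (hw v).symm)⟩
  have := Finite.card_le_one_iff_subsingleton.mpr this
  omega

/-- The nonlinear degrees of `N` when every nonlinear character of `N` is invariant. -/
theorem unique_degree [Group.IsSolvable G] {q : ℕ} {K N : Subgroup G} [K.Normal] [N.Normal]
    [Fintype N] (hF : DegreeGraph.IsFrobeniusSection q K N)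
    (hinv : ∀ θ : N → ℂ, Cfsg.IsIrrCharacter N θ → θ 1 ≠ 1 → ∀ g, conjBy N θ g = θ)
    (hdeg : ∀ d ∈ Cfsg.charDegrees N, d ≠ 1 → q ∣ d ∧ Nat.Coprime d N.index)
    (hnd : ∀ a ∈ Cfsg.charDegrees N, ∀ b ∈ Cfsg.charDegrees N, 1 < a → a < b → ¬ a ∣ b)
    {c c' : ℕ} (hc : c ∈ Cfsg.charDegrees N) (hc' : c' ∈ Cfsg.charDegrees N) (h1 : c ≠ 1)
    (h1' : c' ≠ 1) : c = c' := by
  classical
  haveI := Fact.mk hF.prime
  obtain ⟨M, hMn, hMcop, k, hk⟩ := Cfsg.Agent.S4456.result (G := ↥N) q hF.prime fun χ hχ =>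
    (hdeg _ ⟨χ, rfl⟩ hχ).1
  haveI := hMn
  have hMq : ¬ q ∣ Nat.card M := (Nat.Prime.coprime_iff_not_dvd hF.prime).mp hMcop.symm
  by_cases hab : ∀ a b : N, ⁅a, b⁆ ∈ M
  swap
  · push Not at hab
    exact unique_degree_of_quotient_nonabelian hF.prime M hMq hk hab
      (fun d hd hd1 => (hdeg d hd hd1).1) hnd hc hc' h1 h1'
  have hRM : commutator N ≤ M := Subgroup.commutator_le.mpr fun a _ b _ => hab a b
  have hRq : ¬ q ∣ Nat.card (commutator N) := fun h => hMq (h.trans (Subgroup.card_dvd_of_le hRM))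
  have hRK : ∀ y : N, y ∈ commutator N → (y : G) ∈ K := by
    intro y hy
    have : commutator N ≤ K.comap N.subtype := Subgroup.commutator_le.mpr fun a _ b _ => by
      rw [Subgroup.mem_comap, map_commutatorElement]
      exact hF.comm_mem_bot _ a.2 _ b.2
    exact this hy
  -- elements of order prime to `q` lie in `K`
  have hq' : ∀ y : N, (¬ q ∣ orderOf y) → (y : G) ∈ K := by
    intro y hy
    obtain ⟨mm, -, hmm⟩ := hF.card_eq
    have h2 := (K.subgroupOf N).pow_index_mem y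
    rw [show (K.subgroupOf N).index = q ^ mm from hmm, Subgroup.mem_subgroupOf] at h2
    obtain ⟨i, hi⟩ := exists_pow_eq_self_of_coprime (x := y) (n := q ^ mm)
      ((hF.prime.coprime_iff_not_dvd.mpr hy).pow_left mm)
    rw [← hi, SubmonoidClass.coe_pow]
    exact K.pow_mem h2 i
  -- a Sylow subgroup and a moved element in it
  obtain ⟨W⟩ : Nonempty (Sylow q N) := inferInstance
  obtain ⟨g₀, hg₀⟩ : ∃ g, g ∉ N := by
    by_contra hall
    push Not at hall
    exact hF.ne_top (eq_top_iff.mpr fun x _ => hall x)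
  obtain ⟨v, hvN, hvK⟩ : ∃ v ∈ N, v ∉ K := by
    by_contra hall
    push Not at hall
    obtain ⟨mm, hmm0, hmm⟩ := hF.card_eq
    rw [Subgroup.relIndex_eq_one.mpr hall] at hmm
    exact (Nat.one_lt_pow hmm0.ne' hF.prime.one_lt).ne hmm
  obtain ⟨w₀, hw₀, hwv⟩ := hF.fpf g₀ hg₀ v hvN
  have hw₀K : ⁅g₀, w₀⁆ ∉ K := fun h => hvK (by
    have := K.mul_mem h hwv
    rwa [mul_inv_cancel_left] at this)
  have hWM : (W : Subgroup N) ⊔ M = ⊤ := by
    rw [← Subgroup.index_eq_one]
    have h2 : ((W : Subgroup N) ⊔ M).index ∣ q ^ k := hk ▸ Subgroup.index_dvd_of_le le_sup_right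
    have h3 : ((W : Subgroup N) ⊔ M).index ∣ (W : Subgroup N).index :=
      Subgroup.index_dvd_of_le le_sup_left
    exact Nat.eq_one_of_dvd_coprimes
      ((hF.prime.coprime_iff_not_dvd.mpr W.not_dvd_index).pow_left k) h2 h3
  obtain ⟨x, hxW, m, hm, hxm⟩ := Subgroup.mem_sup_of_normal_right.mp
    (show (⟨w₀, hw₀⟩ : N) ∈ (W : Subgroup N) ⊔ M from hWM ▸ Subgroup.mem_top _)
  have hgmN : g₀ * m * g₀⁻¹ ∈ N := (inferInstance : N.Normal).conj_mem m m.2 g₀
  have hgm : ⁅g₀, (m : G)⁆ ∈ K := by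
    have hmord : ¬ q ∣ orderOf m := fun h => hMq (h.trans (by
      rw [show orderOf m = orderOf (⟨m, hm⟩ : M) from Subgroup.orderOf_coe ⟨m, hm⟩]
      exact orderOf_dvd_natCard _))
    have h2 : g₀ * m * g₀⁻¹ ∈ K := hq' ⟨_, hgmN⟩ (by
      rwa [show (⟨g₀ * m * g₀⁻¹, hgmN⟩ : N) = MulAut.conjNormal g₀ m from
        Subtype.ext (MulAut.conjNormal_apply g₀ m).symm, MulEquiv.orderOf_eq])
    exact K.mul_mem h2 (K.inv_mem (hq' m hmord))
  have hgx : ⁅g₀, (x : G)⁆ ∉ K := by
    intro h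
    apply hw₀K
    rw [show w₀ = (x : G) * m from (congrArg Subtype.val hxm).symm,
      show ⁅g₀, (x : G) * m⁆ = ⁅g₀, (x : G)⁆ * ((x : G) * ⁅g₀, (m : G)⁆ * (x : G)⁻¹) by group]
    exact K.mul_mem h ((inferInstance : K.Normal).conj_mem _ hgm x)
  -- move `g₀` into the normaliser of `W`
  set WG := (W : Subgroup N).map N.subtype with hWG
  obtain ⟨a, ha, n, hn, han⟩ : ∃ a ∈ Subgroup.normalizer (WG : Set G), ∃ n ∈ N, a * n = g₀ := by
    have := Subgroup.mem_top g₀
    rw [← Sylow.normalizer_sup_eq_top W] at this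
    exact Subgroup.mem_sup_of_normal_right.mp this
  have hax : ⁅a, (x : G)⁆ ∉ K := by
    intro h
    apply hgx
    rw [← han, show ⁅a * n, (x : G)⁆ = a * ⁅n, (x : G)⁆ * a⁻¹ * ⁅a, (x : G)⁆ by group]
    exact K.mul_mem ((inferInstance : K.Normal).conj_mem _ (hF.comm_mem_bot n hn x x.2) a) h
  -- the complement
  have hinv' : ∀ g : G, ∀ ψ : N → ℂ, Cfsg.IsIrrCharacter N ψ → ψ 1 ≠ 1 →
      (fun y => ψ (MulAut.conjNormal (H := N) g y)) = ψ := by
    intro g ψ hψ hψ1
    refine Eq.trans (funext fun y => congrArg ψ (Subtype.ext ?_)) (hinv ψ hψ hψ1 g)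
    simp [MulAut.conjNormal_apply]
  have hmoved : MulAut.conjNormal (H := N) a x * x⁻¹ ∉ commutator N := fun h => hax (by
    have := hRK _ h
    simpa [MulAut.conjNormal_apply, commutatorElement_def] using this)
  obtain ⟨hDab, hDinf, hDsup⟩ := normalizer_complement W hRq _ (hinv' a) hxW hmoved
  set D := Subgroup.normalizer ((W : Subgroup N) : Set N) with hD
  -- `x` is moved, and the normaliser of `WG` normalises `D`
  have hxD : x ∈ D := Subgroup.le_normalizer hxW
  have hnormD : ∀ g ∈ Subgroup.normalizer (WG : Set G), ∀ y ∈ D,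
      MulAut.conjNormal (H := N) g y ∈ D := by
    intro g hg y hy
    rw [hD, Subgroup.mem_normalizer_iff]
    intro z
    have hmem : ∀ z : N, z ∈ (W : Subgroup N) ↔ (z : G) ∈ WG := fun z =>
      (Subgroup.mem_map_iff_mem (f := N.subtype) Subtype.val_injective).symm
    have hgi := Subgroup.mem_normalizer_iff.mp hg
    have hyi : ∀ s : G, s ∈ WG ↔ (y : G) * s * (y : G)⁻¹ ∈ WG := by
      intro s
      constructor
      · rintro ⟨s', hs', rfl⟩
        exact ⟨y * s' * y⁻¹, (Subgroup.mem_normalizer_iff.mp hy s').mp hs', rfl⟩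
      · intro hs
        obtain ⟨s', hs', hs''⟩ := hs
        refine ⟨y⁻¹ * s' * y, (Subgroup.mem_normalizer_iff.mp hy _).mpr (by rw [show y * (y⁻¹ * s' * y) * y⁻¹ = s' by group]; exact hs'), ?_⟩
        show (y : G)⁻¹ * (s' : G) * (y : G) = s
        rw [show (s' : G) = (y : G) * s * (y : G)⁻¹ from hs'']
        group
    rw [hmem, hmem]
    obtain ⟨z', hz'⟩ : ∃ z', (z : G) = g * z' * g⁻¹ := ⟨g⁻¹ * z * g, by group⟩
    simp only [Subgroup.coe_mul, Subgroup.coe_inv, MulAut.conjNormal_apply, hz']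
    rw [← hgi, hyi z', hgi ((y : G) * z' * (y : G)⁻¹)]
    exact Iff.of_eq (congrArg (fun u => u ∈ WG) (by group))
  let Cst : Subgroup G := Subgroup.centralizer (D.map N.subtype : Set G)
  have hfixiff : ∀ g : G, g ∈ Cst ↔ ∀ y ∈ D, MulAut.conjNormal (H := N) g y = y := by
    intro g
    refine ⟨fun hg y hy => Subtype.ext ?_, fun hg => Subgroup.mem_centralizer_iff.mpr ?_⟩
    · rw [MulAut.conjNormal_apply, ← Subgroup.mem_centralizer_iff.mp hg (y : G) ⟨y, hy, rfl⟩,
        mul_inv_cancel_right]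
    · rintro _ ⟨y, hy, rfl⟩
      have h2 := congrArg Subtype.val (hg y hy)
      rw [MulAut.conjNormal_apply, mul_inv_eq_iff_eq_mul] at h2
      exact h2.symm
  have haC : a ∉ Cst := fun h => hmoved (by
    rw [(hfixiff a).mp h x hxD, mul_inv_cancel]; exact one_mem _)
  have hex : ∃ i, 0 < i ∧ a ^ i ∈ Cst :=
    ⟨orderOf a, orderOf_pos a, by rw [pow_orderOf_eq_one]; exact one_mem _⟩
  set o := Nat.find hex with ho
  obtain ⟨ho0, hoC⟩ := Nat.find_spec hex
  have ho1 : o ≠ 1 := fun e => haC (by simpa [← ho, e] using hoC)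
  obtain ⟨h, hh, hho⟩ := Nat.exists_prime_and_dvd ho1
  obtain ⟨j, hj⟩ := hho
  set g₁ := a ^ j with hg₁
  have hg₁h : g₁ ^ h ∈ Cst := by rw [hg₁, ← pow_mul, mul_comm, ← hj]; exact hoC
  have hj0 : 0 < j := Nat.pos_of_ne_zero fun e => by rw [e, mul_zero] at hj; omega
  have hg₁n : g₁ ∉ Cst := fun hC => Nat.find_min hex
    (show j < o by rw [hj]; exact lt_mul_left hj0 hh.one_lt) ⟨hj0, hC⟩
  obtain ⟨e, t, ht, hord⟩ := Nat.exists_eq_pow_mul_and_not_dvd (orderOf_pos g₁).ne' h hh.ne_one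
  set g := g₁ ^ t with hg
  have hgpow : g ^ h ^ e = 1 := by rw [hg, ← pow_mul, mul_comm, ← hord, pow_orderOf_eq_one]
  have hgh : g ^ h ∈ Cst := by rw [hg, ← pow_mul, mul_comm, pow_mul]; exact Cst.pow_mem hg₁h t
  have hgn : g ∉ Cst := by
    intro hC
    apply hg₁n
    have hcop : Nat.gcd t h = 1 := ((hh.coprime_iff_not_dvd.mpr ht).symm).gcd_eq_one
    have := Nat.gcd_eq_gcd_ab t h
    rw [hcop] at this
    rw [← zpow_one g₁, show (1 : ℤ) = _ from by exact_mod_cast this, zpow_add, zpow_mul, zpow_mul,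
      zpow_natCast, zpow_natCast]
    exact Cst.mul_mem (Cst.zpow_mem hC _) (Cst.zpow_mem hg₁h _)
  have hgN' : g ∈ Subgroup.normalizer (WG : Set G) := Subgroup.pow_mem _ (Subgroup.pow_mem _ ha j) t
  have hgN : g ∉ N := by
    intro hgN
    refine hgn ((hfixiff g).mpr fun y hy => Subtype.ext ?_)
    have hgD : (⟨g, hgN⟩ : N) ∈ D := by
      rw [hD, Subgroup.mem_normalizer_iff]
      intro z
      have hmem : ∀ z : N, z ∈ (W : Subgroup N) ↔ (z : G) ∈ WG := fun z =>
        (Subgroup.mem_map_iff_mem (f := N.subtype) Subtype.val_injective).symm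
      rw [hmem, hmem]
      exact Subgroup.mem_normalizer_iff.mp hgN' z
    rw [MulAut.conjNormal_apply,
      show g * (y : G) = (y : G) * g from congrArg Subtype.val (hDab _ hgD y hy), mul_inv_cancel_right]
  have hhf : h ∣ N.index := by
    have h2 : orderOf (g : G ⧸ N) ∣ h ^ e := orderOf_dvd_of_pow_eq_one (by
      rw [← QuotientGroup.mk_pow, hgpow, QuotientGroup.mk_one])
    obtain ⟨i, -, hi⟩ := (Nat.dvd_prime_pow hh).mp h2
    have hi0 : i ≠ 0 := fun z => hgN ((QuotientGroup.eq_one_iff g).mp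
      (orderOf_eq_one_iff.mp (by rw [hi, z, pow_zero])))
    have h3 := orderOf_dvd_natCard (g : G ⧸ N)
    rw [hi] at h3
    exact (dvd_pow_self h hi0).trans h3
  have hit : ∀ (i : ℕ) (y : N), (⇑(MulAut.conjNormal (H := N) g))^[i] y =
      MulAut.conjNormal (H := N) (g ^ i) y := by
    intro i
    induction i with
    | zero => intro y; simp
    | succ i ih =>
      intro y
      rw [Function.iterate_succ_apply', ih, pow_succ', map_mul]
      rfl
  have H : Hyp N D (MulAut.conjNormal (H := N) g) h :=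
    { prime := hh
      comm := hDab
      inf := hDinf
      sup := hDsup
      map_D := hnormD g hgN'
      pow := ⟨e, fun y => by rw [hit, hgpow, map_one]; rfl⟩
      pow_D := fun y hy => by rw [hit]; exact (hfixiff _).mp hgh y hy
      ne := by
        by_contra hall
        push Not at hall
        exact hgn ((hfixiff g).mpr hall)
      inv := hinv' g
      cop := fun ψ d hψ hd hd1 hhd => by
        exact hh.not_dvd_one ((hdeg d (DegreeGraph.mem_charDegrees hψ hd) hd1).2 ▸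
          Nat.dvd_gcd hhd hhf)
      nd := fun ψ ψ' p r hψ hψ' hp hr hp1 hpr => hnd p (DegreeGraph.mem_charDegrees hψ hp) r
        (DegreeGraph.mem_charDegrees hψ' hr) hp1 hpr }
  obtain ⟨ψ, hψ, hψ1, -⟩ := DegreeGraph.exists_of_mem hc
  obtain ⟨ψ', hψ', hψ1', -⟩ := DegreeGraph.exists_of_mem hc'
  have := H.degree_unique hψ hψ' (by rw [hψ1]; exact_mod_cast h1) (by rw [hψ1']; exact_mod_cast h1')
  rw [hψ1, hψ1'] at this
  exact_mod_cast this

/-- **Two components, no divisibility: three degrees.** -/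
theorem card_charDegrees_eq_three [Group.IsSolvable G]
    (hnd : ∀ a ∈ Cfsg.charDegrees G, ∀ b ∈ Cfsg.charDegrees G, 1 < a → a < b → ¬ a ∣ b)
    (htwo : Nat.card ((Cfsg.degreeGraph G).induce (Cfsg.degreePrimes G)).ConnectedComponent = 2) :
    Nat.card ↥(Cfsg.charDegrees G) = 3 := by
  classical
  have hne : ∃ a b : G, a * b ≠ b * a := by
    by_contra hall
    push Not at hall
    haveI : IsEmpty (Cfsg.degreePrimes G) :=
      Set.isEmpty_coe_sort.mpr (DegreeGraph.degreePrimes_eq_empty_of_comm hall)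
    haveI : IsEmpty ((Cfsg.degreeGraph G).induce (Cfsg.degreePrimes G)).ConnectedComponent :=
      ⟨fun c => by
        induction c using SimpleGraph.ConnectedComponent.ind with
        | _ v => exact IsEmpty.false v⟩
    rw [Nat.card_of_isEmpty] at htwo
    omega
  have hnd' : ∀ a ∈ Cfsg.charDegrees G, ∀ b ∈ Cfsg.charDegrees G, 1 < a → 1 < b → a ∣ b →
      a = b := fun a ha b hb ha1 hb1 hab =>
    (Nat.le_of_dvd (by omega) hab).eq_or_lt.resolve_right fun h => hnd a ha b hb ha1 h hab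
  obtain ⟨K, hKn, h⟩ := DegreeGraph.exists_section hne
  haveI := hKn
  haveI := Fintype.ofFinite K
  rcases h with ⟨q, n, hq, hn, hab⟩ | ⟨q, N, hNn, hF⟩
  · exfalso
    obtain ⟨j, hj, hmem⟩ := DegreeGraph.exists_prime_pow_degree hq K hn hab
    have hQ := DegreeGraph.charDegrees_quotient_subset K hmem
    have hqmem : q ∈ Cfsg.degreePrimes G := ⟨hq, q ^ j, hQ, dvd_pow_self q hj.ne'⟩
    refine false_of_reach htwo ⟨q, hqmem⟩ fun v => ?_
    obtain ⟨hv, c, hc, hvc⟩ := v.2
    refine DegreeGraph.reachable_of_dvd hc hvc ?_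
    by_contra hqc
    obtain ⟨χ, hχ, hχ1, hc0⟩ := DegreeGraph.exists_of_mem hc
    have hres := DegreeGraph.restrict_irr_of_coprime K hχ hχ1
      (hn ▸ (Nat.coprime_comm.1 (hq.coprime_iff_not_dvd.2 hqc)).pow_right n)
    have hm := DegreeGraph.mul_mem_charDegrees K hχ hres hχ1 hmem
    have hc1 : 1 < c := lt_of_lt_of_le hv.one_lt (Nat.le_of_dvd hc0 hvc)
    exact hnd c hc _ hm hc1 (lt_mul_of_one_lt_right hc0 (Nat.one_lt_pow hj.ne' hq.one_lt))
      (dvd_mul_right _ _)
  haveI := hNn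
  haveI := Fintype.ofFinite N
  set f := N.index with hfdef
  have hf1 : 1 < f := by
    have h1 : N.index ≠ 1 := fun h => hF.ne_top (Subgroup.index_eq_one.1 h)
    have h0 : N.index ≠ 0 := Subgroup.index_ne_zero_of_finite
    omega
  have hf : f ∈ Cfsg.charDegrees G := by
    rcases hF.index_mul_mem_or_dvd isIrr_one (d := 1) (by simp) with h | h
    · simpa using h
    · exact absurd h hF.prime.not_dvd_one
  have hθq : ∀ (θ : N → ℂ) (d : ℕ), Cfsg.IsIrrCharacter N θ → θ 1 = d → d ≠ 1 → q ∣ d := by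
    intro θ d hθ hd hd1
    refine (hF.index_mul_mem_or_dvd hθ hd).resolve_left fun h => ?_
    have hd0 : 0 < d := Nat.pos_of_ne_zero fun e => by
      rw [e, mul_zero] at h
      exact absurd (DegreeGraph.pos_of_mem h) (lt_irrefl 0)
    exact hnd f hf _ h hf1 (lt_mul_of_one_lt_right (by omega) (by omega)) (dvd_mul_right _ _)
  have hG : ∀ c ∈ Cfsg.charDegrees G, c = 1 ∨ c = f ∨ q ∣ c := by
    intro c hc
    obtain ⟨χ, hχ, hχ1, -⟩ := DegreeGraph.exists_of_mem hc
    obtain ⟨θ, hθ, hcon⟩ := DegreeGraph.exists_under N hχ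
    obtain ⟨d, k, hd, rfl, hk, hd0⟩ := DegreeGraph.exists_ratio N hχ hθ hcon hχ1
    by_cases hd1 : d = 1
    · subst hd1
      rw [one_mul] at hc ⊢
      by_cases hk1 : k = 1
      · exact Or.inl hk1
      · have := DegreeGraph.pos_of_mem hc
        exact Or.inr (Or.inl (hnd' k hc f hf (by omega) hf1 hk))
    · exact Or.inr (Or.inr (dvd_mul_of_dvd_left (hθq θ d hθ hd hd1) k))
  have hcopf : ∀ c ∈ Cfsg.charDegrees G, q ∣ c → Nat.Coprime c f := by
    intro c hc hqc
    by_contra hnc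
    obtain ⟨p, hp, hpc, hpf⟩ := Nat.Prime.not_coprime_iff_dvd.mp hnc
    have hqmem : q ∈ Cfsg.degreePrimes G := ⟨hF.prime, c, hc, hqc⟩
    have hpmem : p ∈ Cfsg.degreePrimes G := ⟨hp, c, hc, hpc⟩
    refine false_of_reach htwo ⟨q, hqmem⟩ fun v => ?_
    obtain ⟨hv, b, hb, hvb⟩ := v.2
    rcases hG b hb with h | h | h
    · exact absurd (h ▸ hvb) hv.not_dvd_one
    · exact (DegreeGraph.reachable_of_dvd (r := v) (s := ⟨p, hpmem⟩) hf (h ▸ hvb) hpf).trans
        (DegreeGraph.reachable_of_dvd hc hpc hqc)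
    · exact DegreeGraph.reachable_of_dvd hb hvb h
  have hN : ∀ (θ : N → ℂ) (d : ℕ), Cfsg.IsIrrCharacter N θ → θ 1 = d → d ≠ 1 →
      (d ∈ Cfsg.charDegrees G ∧ q ∣ d ∧ Nat.Coprime d f) ∧ ∀ g, conjBy N θ g = θ := by
    intro θ d hθ hd hd1
    obtain ⟨χ, hχ, hcon⟩ := CharactersDeep.Clifford.exists_over N hθ
    obtain ⟨c, -, hc⟩ := exists_degree_pos hχ
    obtain ⟨d', k, hd', rfl, hk, -⟩ := DegreeGraph.exists_ratio N hχ hθ hcon hc
    have hdd : d' = d := by rw [hd] at hd'; exact_mod_cast hd'.symm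
    subst hdd
    have hmem := DegreeGraph.mem_charDegrees hχ hc
    have hqd := hθq θ d' hθ hd hd1
    have hcop := hcopf _ hmem (dvd_mul_of_dvd_left hqd k)
    have hk1 : k = 1 := Nat.eq_one_of_dvd_coprimes hcop (dvd_mul_left _ _) hk
    rw [hk1, mul_one] at hmem hc hcop
    have hres := DegreeGraph.restrict_irr_of_coprime N hχ hc hcop
    have heq : (fun y : N => χ y) = θ := by
      by_contra hne'
      exact hcon (classInner_isIrr_ne hres hθ hne')
    exact ⟨⟨hmem, hqd, hcop⟩, fun g => by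
      rw [← heq]; exact CharactersDeep.Clifford.conjBy_restrict N (isClassFunction_of_isIrr hχ) g⟩
  have hNmem : ∀ d ∈ Cfsg.charDegrees N, d ≠ 1 → d ∈ Cfsg.charDegrees G ∧ q ∣ d ∧ Nat.Coprime d f :=
    fun d hd hd1 => by
      obtain ⟨θ, hθ, hθ1, -⟩ := DegreeGraph.exists_of_mem hd
      exact (hN θ d hθ hθ1 hd1).1
  -- some degree is divisible by `q`
  obtain ⟨s, hs, hs1, hqs⟩ : ∃ s ∈ Cfsg.charDegrees G, s ≠ 1 ∧ q ∣ s := by
    by_contra hall
    push Not at hall
    obtain ⟨p, hp, hpf⟩ := Nat.exists_prime_and_dvd (show f ≠ 1 by omega)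
    refine false_of_reach htwo ⟨p, hp, f, hf, hpf⟩ fun v => ?_
    obtain ⟨hv, b, hb, hvb⟩ := v.2
    rcases hG b hb with h | h | h
    · exact absurd (h ▸ hvb) hv.not_dvd_one
    · exact DegreeGraph.reachable_of_dvd hf (h ▸ hvb) hpf
    · exact absurd h (hall b hb fun e => hv.not_dvd_one (e ▸ hvb))
  have hunder : ∀ c ∈ Cfsg.charDegrees G, c ≠ 1 → q ∣ c → c ∈ Cfsg.charDegrees N := by
    intro c hc hc1 hqc
    obtain ⟨χ, hχ, hχ1, -⟩ := DegreeGraph.exists_of_mem hc
    exact DegreeGraph.mem_charDegrees (DegreeGraph.restrict_irr_of_coprime N hχ hχ1 (hcopf c hc hqc))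
      hχ1
  have huniq : ∀ c ∈ Cfsg.charDegrees G, q ∣ c → c ≠ 1 → c = s := fun c hc hqc hc1 =>
    unique_degree hF (fun θ hθ h1 g => by
        obtain ⟨d, -, hd⟩ := exists_degree_pos hθ
        exact (hN θ d hθ hd fun e => h1 (by rw [hd, e, Nat.cast_one])).2 g)
      (fun d hd hd1 => (hNmem d hd hd1).2)
      (fun a ha b hb ha1 hab => hnd a (hNmem a ha (by omega)).1 b (hNmem b hb (by omega)).1 ha1 hab)
      (hunder c hc hc1 hqc) (hunder s hs hs1 hqs) hc1 hs1
  have hfs : f ≠ s := by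
    intro e
    have := hcopf s hs hqs
    rw [← e, Nat.coprime_self] at this
    omega
  rw [Nat.card_coe_set_eq]
  refine Set.ncard_eq_three.mpr ⟨1, f, s, by omega, hs1.symm, hfs, Set.ext fun c => ⟨fun hc => ?_, ?_⟩⟩
  · rcases hG c hc with h | h | h
    · exact Or.inl h
    · exact Or.inr (Or.inl h)
    · by_cases hc1 : c = 1
      · exact Or.inl hc1
      · exact Or.inr (Or.inr (huniq c hc h hc1))
  · rintro (rfl | rfl | rfl)
    · exact DegreeGraph.mem_charDegrees isIrr_one (by simp)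
    · exact hf
    · exact hs

end CfsgLib.TwoComponents73
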