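import Cfsg.Agent.TwoComponents73.Setup
import Cfsg.Agent.GaloisAverage.Ito

/-!
# An automorphism fixing all nonlinear characters: only one nonlinear degree
-/

set_option autoImplicit false
set_option linter.style.haveILetI false
set_option linter.unusedSectionVars false

namespace CfsgLib.TwoComponents73

open CfsgLib.Characters CfsgLib.OddOrderChar CfsgLib.CharactersDeep
open scoped ComplexConjugate commutatorElement

universe u

variable {N : Type u} [Group N] [Fintype N] {D : Subgroup N} {φ : MulAut N} {h : ℕ}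

/-- An irreducible character with the derived subgroup in its kernel is linear. -/
theorem linear_of_trivial {G : Type u} [Group G] [Finite G] {χ : G → ℂ}
    (hχ : Cfsg.IsIrrCharacter G χ) (h : ∀ c ∈ commutator G, χ c = χ 1) : χ 1 = 1 := by
  obtain ⟨ψ, hψ, hval⟩ := exists_irr_quotient (commutator G) hχ h
  obtain ⟨d, hd, hdvd⟩ := CfsgLib.GaloisAverage.exists_degree_dvd_index hψ ⊤ fun a _ b _ => by
    obtain ⟨x, rfl⟩ := QuotientGroup.mk_surjective a
    obtain ⟨y, rfl⟩ := QuotientGroup.mk_surjective b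
    refine QuotientGroup.eq.mpr ?_
    have e : (x * y)⁻¹ * (y * x) = ⁅y⁻¹, x⁻¹⁆ := by group
    rw [e]
    exact Subgroup.commutator_mem_commutator (Subgroup.mem_top _) (Subgroup.mem_top _)
  rw [Subgroup.index_top, Nat.dvd_one] at hdvd
  rw [hval 1]
  simpa [hdvd] using hd

namespace Hyp

variable (H : Hyp N D φ h)

include H

/-- The system on the linear characters of the derived subgroup. -/
theorem exists_sysV : letI := commGroupOf H.comm
    ∃ A : Sys D (⊤ : Subgroup (↥(commutator N) →* ℂˣ)),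
      (∀ d x, (A.τ d x : ↥(commutator N) →* ℂˣ) = cact (commutator N) d x) ∧ A.γ = H.γ :=
  H.exists_sys (commutator N) le_rfl (fun _ => H.map_commutator') ⊤
    (fun l _ r hr => cact_self (commutator N) ⟨r, hr⟩ l) (fun _ _ _ _ => Subgroup.mem_top _)
    fun _ _ => Subgroup.mem_top _

/-- The inertia groups of all nontrivial linear characters of the derived subgroup coincide. -/
theorem stab_le {l l' : ↥(commutator N) →* ℂˣ} (hl' : l' ≠ 1) :
    TwoDegrees73.stab (commutator N) l' ≤ TwoDegrees73.stab (commutator N) l := by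
  letI := commGroupOf H.comm
  obtain ⟨A, hτ, -⟩ := H.exists_sysV
  intro n hn
  obtain ⟨r, hr, d, hd, rfl⟩ := H.exists_decomp n
  have hr1 : ∀ m : ↥(commutator N) →* ℂˣ, r ∈ TwoDegrees73.stab (commutator N) m := fun m =>
    (cact_eq_iff _).mp (cact_self (commutator N) ⟨r, hr⟩ m)
  have hd' : d ∈ TwoDegrees73.stab (commutator N) l' := by
    have := (TwoDegrees73.stab (commutator N) l').mul_mem
      ((TwoDegrees73.stab (commutator N) l').inv_mem (hr1 l')) hn
    rwa [inv_mul_cancel_left] at this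
  let x' : (⊤ : Subgroup (↥(commutator N) →* ℂˣ)) := ⟨l', Subgroup.mem_top l'⟩
  let x : (⊤ : Subgroup (↥(commutator N) →* ℂˣ)) := ⟨l, Subgroup.mem_top l⟩
  let dD : D := ⟨d, hd⟩
  have hx' : x' ≠ 1 := fun e => hl' (congrArg Subtype.val e)
  have hfix : A.τ dD x' = x' := Subtype.ext (by
    rw [hτ dD x']
    exact (cact_eq_iff (commutator N)).mpr hd')
  have h2 : A.τ dD x = x := A.fix_all hx' hfix x
  refine Subgroup.mul_mem _ (hr1 l) ((cact_eq_iff (commutator N)).mp ?_)
  have h3 := congrArg Subtype.val h2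
  rw [hτ dD x] at h3
  exact h3

theorem not_mem_stab {l : ↥(commutator N) →* ℂˣ} (hl : l ≠ 1) {d : N} (hd : d ∈ D)
    (hne : φ d ≠ d) : d ∉ TwoDegrees73.stab (commutator N) l := fun hs =>
  hl (H.cact_fpf (commutator N) le_rfl hd hne ((cact_eq_iff _).mpr hs))

theorem one_lt_index_stab {l : ↥(commutator N) →* ℂˣ} (hl : l ≠ 1) :
    1 < (TwoDegrees73.stab (commutator N) l).index := by
  obtain ⟨d, hd, hne⟩ := H.ne
  have h0 : (TwoDegrees73.stab (commutator N) l).index ≠ 0 := Subgroup.index_ne_zero_of_finite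
  have h1 : (TwoDegrees73.stab (commutator N) l).index ≠ 1 := fun e =>
    H.not_mem_stab hl hd hne (Subgroup.index_eq_one.mp e ▸ Subgroup.mem_top d)
  omega

/-- The index of the inertia group is a degree. -/
theorem exists_degree (l : ↥(commutator N) →* ℂˣ) :
    ∃ ψ : N → ℂ, Cfsg.IsIrrCharacter N ψ ∧
      ψ 1 = ((TwoDegrees73.stab (commutator N) l).index : ℂ) := by
  classical
  set T := TwoDegrees73.stab (commutator N) l with hT
  have hR : commutator N ≤ T := fun r hr =>
    (cact_eq_iff _).mp (cact_self (commutator N) ⟨r, hr⟩ l)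
  haveI := Subgroup.Normal.of_commutator_le _ hR
  haveI := Fintype.ofFinite T
  let p : D →* Abelianization N := Abelianization.of.comp D.subtype
  have hp : Function.Bijective p := by
    refine ⟨(injective_iff_map_eq_one p).mpr fun d hd => Subtype.ext (H.eq_one_of_mem d.2 ?_), ?_⟩
    · rw [← Abelianization.ker_of]
      exact MonoidHom.mem_ker.mpr hd
    · intro a
      obtain ⟨n, rfl⟩ := QuotientGroup.mk_surjective a
      obtain ⟨r, hr, d, hd, rfl⟩ := H.exists_decomp n
      refine ⟨⟨d, hd⟩, QuotientGroup.eq.mpr ?_⟩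
      show d⁻¹ * (r * d) ∈ commutator N
      have := (inferInstance : (commutator N).Normal).conj_mem r hr d⁻¹
      rwa [inv_inv, mul_assoc] at this
  let π : N →* D := (MulEquiv.ofBijective p hp).symm.toMonoidHom.comp Abelianization.of
  have hπ : ∀ n, n * (π n : N)⁻¹ ∈ commutator N := by
    intro n
    have e : Abelianization.of (π n : N) = Abelianization.of n :=
      (MulEquiv.ofBijective p hp).apply_symm_apply _
    rw [← Abelianization.ker_of, MonoidHom.mem_ker, map_mul, map_inv, e, mul_inv_cancel]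
  have hπT : ∀ t : T, (π t : N) ∈ T := fun t => by
    have := T.mul_mem (T.inv_mem (hR (hπ t))) t.2
    rwa [mul_inv_rev, inv_inv, inv_mul_cancel_right] at this
  let l' : T →* ℂˣ :=
    { toFun := fun t => l ⟨(t : N) * (π t : N)⁻¹, hπ t⟩
      map_one' := by
        have : (⟨((1 : T) : N) * (π ((1 : T) : N) : N)⁻¹, hπ _⟩ : commutator N) = 1 :=
          Subtype.ext (by simp)
        rw [this, map_one]
      map_mul' := fun s t => by
        have e : (⟨((s * t : T) : N) * (π ((s * t : T) : N) : N)⁻¹, hπ _⟩ : commutator N) =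
            ⟨(s : N) * (π s : N)⁻¹, hπ _⟩ * ⟨(π s : N) * ((t : N) * (π t : N)⁻¹) * (π s : N)⁻¹,
              (inferInstance : (commutator N).Normal).conj_mem _ (hπ t) _⟩ :=
          Subtype.ext (by simp [mul_assoc])
        rw [e, map_mul]
        exact congrArg _ ((TwoDegrees73.mem_stab _).mp (hπT s) ⟨_, hπ t⟩) }
  refine ⟨Cfsg.indFun T (fun t => (l' t : ℂ)),
    DegreeGraph.isIrr_indFun_of_stabilizer T (isIrr_linChar l') fun g hg hfix => hg ?_, ?_⟩
  · refine (TwoDegrees73.mem_stab _).mpr fun r => Units.ext ?_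
    have h1 := congrFun hfix ⟨r, hR r.2⟩
    have hπr : ∀ x ∈ commutator N, (π x : N) = 1 := fun x hx => by
      have : Abelianization.of x = 1 := by
        rw [← MonoidHom.mem_ker, Abelianization.ker_of]; exact hx
      show (((MulEquiv.ofBijective p hp).symm (Abelianization.of x) : D) : N) = 1
      rw [this, map_one]
      rfl
    have hl' : ∀ (x : N) (hx : x ∈ commutator N), l' ⟨x, hR hx⟩ = l ⟨x, hx⟩ := fun x hx =>
      congrArg l (Subtype.ext (by simp [hπr x hx]))
    rw [← hl' (r : N) r.2, ← hl' (g * r * g⁻¹) ((inferInstance : (commutator N).Normal).conj_mem r r.2 g)]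
    exact h1
  · rw [CfsgLib.Characters.indFun_one, map_one, Units.val_one, mul_one]

/-- A character over a constituent with small inertia group has degree a multiple of the index. -/
theorem no_big_degree [Fintype ↥(commutator N)] {l : ↥(commutator N) →* ℂˣ} (hl : l ≠ 1) {ψ : N → ℂ}
    (hψ : Cfsg.IsIrrCharacter N ψ) {θ : ↥(commutator N) → ℂ}
    (hθ : Cfsg.IsIrrCharacter (commutator N) θ)
    (hcon : Cfsg.classInner (fun n : commutator N => ψ n) θ ≠ 0)
    (hle : ∀ n, conjBy (commutator N) θ n = θ → n ∈ TwoDegrees73.stab (commutator N) l) :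
    ψ 1 = ((TwoDegrees73.stab (commutator N) l).index : ℂ) ∧ θ 1 = 1 := by
  classical
  let T : Subgroup N :=
    { carrier := {n | conjBy (commutator N) θ n = θ}
      one_mem' := conjBy_one _ θ
      mul_mem' := fun {a b} (ha : conjBy (commutator N) θ a = θ)
          (hb : conjBy (commutator N) θ b = θ) => by
        show conjBy (commutator N) θ (a * b) = θ
        rw [← conjBy_mul, ha, hb]
      inv_mem' := fun {a} (ha : conjBy (commutator N) θ a = θ) => by
        show conjBy (commutator N) θ a⁻¹ = θ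
        conv_lhs => rw [← ha]
        rw [conjBy_mul, mul_inv_cancel, conjBy_one] }
  have h1 := clifford_degree (commutator N) hψ hθ T (fun g => Iff.rfl) hcon
  obtain ⟨e, he⟩ := classInner_character_irr
    (isCharacter_restrict (commutator N) (isCharacter_of_isIrr hψ)) hθ
  obtain ⟨c, hc0, hc⟩ := exists_degree_pos hθ
  rw [he, hc, ← Nat.cast_mul, ← Nat.cast_mul] at h1
  set s := (TwoDegrees73.stab (commutator N) l).index
  obtain ⟨k, hk⟩ : s ∣ T.index := Subgroup.index_dvd_of_le (fun n hn => hle n hn)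
  have hs : 1 < s := H.one_lt_index_stab hl
  have he0 : e ≠ 0 := fun e0 => hcon (by rw [he, e0, Nat.cast_zero])
  have hk0 : k ≠ 0 := fun e0 => Subgroup.index_ne_zero_of_finite (H := T) (by rw [hk, e0, mul_zero])
  have hval : ψ 1 = ((s * (e * k * c) : ℕ) : ℂ) := by
    rw [h1, hk]
    congr 1
    ring
  by_cases h11 : e * k * c = 1
  · refine ⟨by rw [hval, h11, mul_one], ?_⟩
    rw [hc, Nat.eq_one_of_mul_eq_one_left h11, Nat.cast_one]
  · obtain ⟨ψ₀, hψ₀, hψ₀1⟩ := H.exists_degree l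
    refine absurd (dvd_mul_right s (e * k * c)) (H.nd ψ₀ ψ s _ hψ₀ hψ hψ₀1 hval hs ?_)
    refine lt_mul_of_one_lt_right (by omega) ?_
    have : 0 < e * k * c := Nat.mul_pos (Nat.mul_pos (by omega) (by omega)) hc0
    omega

/-- If the derived subgroup is abelian there is only one nonlinear degree. -/
theorem degree_of_abelian (hab : commutator ↥(commutator N) = ⊥) {l : ↥(commutator N) →* ℂˣ}
    (hl : l ≠ 1) {ψ : N → ℂ} (hψ : Cfsg.IsIrrCharacter N ψ) (h1 : ψ 1 ≠ 1) :
    ψ 1 = ((TwoDegrees73.stab (commutator N) l).index : ℂ) := by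
  classical
  obtain ⟨θ, hθ, hcon⟩ := DegreeGraph.exists_under (commutator N) hψ
  haveI : IsMulCommutative ↥(commutator N) := (commutator_eq_bot_iff _).mp hab
  obtain ⟨l', rfl⟩ := exists_hom_of_degree_one (isCharacter_of_isIrr hθ)
    (GaloisAverage.irr_one_eq_one hθ)
  by_cases hl' : l' = 1
  · subst hl'
    refine absurd (linear_of_trivial hψ fun c hc => ?_) h1
    obtain ⟨e, -, he, -⟩ := CharactersDeep.Clifford.restrict_eq_smul (commutator N) hψ hθ
      (fun g => funext fun n => rfl) hcon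
    have e1 := congrFun he ⟨c, hc⟩
    have e2 := congrFun he 1
    simp only [OneMemClass.coe_one, Pi.smul_apply, MonoidHom.one_apply, Units.val_one] at e1 e2
    rw [e1, e2]
  exact (H.no_big_degree hl hψ hθ hcon fun n hn =>
    H.stab_le hl' ((TwoDegrees73.mem_stab_iff_conjBy _).mpr hn)).1

/-- The derived subgroup is abelian. -/
theorem commutator_commutator_eq_bot [Group.IsSolvable N] : commutator ↥(commutator N) = ⊥ := by
  classical
  by_contra hne
  letI := commGroupOf H.comm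
  set R := commutator N with hRdef
  obtain ⟨A, hτ, hγ⟩ : ∃ A : Sys D (⊤ : Subgroup (↥R →* ℂˣ)),
      (∀ d x, (A.τ d x : ↥R →* ℂˣ) = cact R d x) ∧ A.γ = H.γ := H.exists_sysV
  haveI : Nontrivial ↥R := by
    by_contra hnt
    rw [not_nontrivial_iff_subsingleton] at hnt
    haveI := hnt
    exact hne (Subsingleton.elim _ _)
  haveI : Group.IsSolvable ↥R := inferInstance
  have hRR : commutator ↥R ≠ ⊤ := by
    intro e
    have := IsSolvable.commutator_lt_of_ne_bot (G := ↥R) (H := ⊤) top_ne_bot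
    rw [← commutator_def, e] at this
    exact lt_irrefl _ this
  obtain ⟨a₀, ha₀⟩ : ∃ a, a ∉ commutator ↥R := by
    by_contra hall
    push Not at hall
    exact hRR (eq_top_iff.mpr fun x _ => hall x)
  obtain ⟨l₁, -, hl₁⟩ := exists_lin _ le_rfl ha₀
  have hl₁1 : l₁ ≠ 1 := fun e => hl₁ (by rw [e]; rfl)
  haveI : Nontrivial (⊤ : Subgroup (↥R →* ℂˣ)) :=
    ⟨⟨⟨l₁, Subgroup.mem_top _⟩, 1, fun e => hl₁1 (congrArg Subtype.val e)⟩⟩
  obtain ⟨r, hr, hexp⟩ := A.exists_prime_exponent
  haveI := Fact.mk hr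
  have hexpl : ∀ l : ↥R →* ℂˣ, l ^ r = 1 := fun l =>
    congrArg Subtype.val (hexp ⟨l, Subgroup.mem_top _⟩)
  -- `r`-th powers lie in the second derived subgroup
  have hpow : ∀ a : ↥R, a ^ r ∈ commutator ↥R := by
    intro a
    by_contra hna
    obtain ⟨l, -, hl⟩ := exists_lin _ le_rfl hna
    exact hl (by rw [map_pow, ← MonoidHom.pow_apply, hexpl]; rfl)
  set R₂ : Subgroup N := ⁅R, R⁆ with hR₂
  haveI : R₂.Normal := Subgroup.commutator_normal R R
  have hR₂R : R₂ ≤ R := Subgroup.commutator_le_self R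
  have hmem₂ : ∀ x : ↥R, x ∈ commutator ↥R ↔ (x : N) ∈ R₂ := fun x => by
    rw [hR₂, ← Subgroup.map_subtype_commutator]
    exact (Subgroup.mem_map_iff_mem (f := R.subtype) Subtype.val_injective).symm
  have hR₂φ : ∀ s ∈ R₂, φ s ∈ R₂ := by
    intro s hs
    refine (show R₂ ≤ R₂.comap φ.toMonoidHom from Subgroup.commutator_le.mpr fun a ha b hb => ?_) hs
    rw [Subgroup.mem_comap, map_commutatorElement]
    exact Subgroup.commutator_mem_commutator (H.map_commutator' ha) (H.map_commutator' hb)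
  have hR₂ne : R₂ ≠ ⊥ := fun e => hne ((Subgroup.eq_bot_iff_forall _).mpr fun x hx => by
    have := (hmem₂ x).mp hx
    rw [e, Subgroup.mem_bot] at this
    exact Subtype.ext this)
  -- `θ` invariant under `R` kills commutators with `R`
  have hinvR : ∀ {θ : ↥R₂ →* ℂˣ}, (∀ x ∈ R, cact R₂ x θ = θ) → ∀ x ∈ R, ∀ (s : N) (hs : s ∈ R₂),
      θ ⟨x * s * x⁻¹, (inferInstance : R₂.Normal).conj_mem s hs x⟩ = θ ⟨s, hs⟩ := by
    intro θ hθ x hx s hs
    exact (TwoDegrees73.mem_stab _).mp ((cact_eq_iff _).mp (hθ x hx)) ⟨s, hs⟩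
  by_cases hL : ⁅R₂, R⁆ = R₂
  · -- no invariant linear character: Frobenius action
    haveI : Group.IsSolvable ↥R₂ := inferInstance
    obtain ⟨d₀, hd₀, hd₀ne⟩ := H.ne
    set y : D := H.γ ⟨d₀, hd₀⟩ / ⟨d₀, hd₀⟩ with hy
    have hl₁' : (⟨l₁, Subgroup.mem_top _⟩ : (⊤ : Subgroup (↥R →* ℂˣ))) ≠ 1 := fun e =>
      hl₁1 (congrArg Subtype.val e)
    have hypow : ∀ i : ℕ, y ^ i ≠ 1 → φ ((y : N) ^ i) ≠ (y : N) ^ i := by
      intro i hi hfix
      apply hi
      have e1 : y ^ i = H.γ (⟨d₀, hd₀⟩ ^ i) / (⟨d₀, hd₀⟩ ^ i) := by rw [hy, div_pow, map_pow]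
      have e2 : H.γ (y ^ i) = y ^ i := Subtype.ext (by
        rw [H.γ_apply, SubmonoidClass.coe_pow]; exact hfix)
      rw [e1] at e2
      rw [← hγ] at e2
      have := A.eq_of_diff_fixed hl₁' e2
      rw [e1, ← hγ, this, div_self']
    have hy1 : y ≠ 1 := fun e => hd₀ne (congrArg Subtype.val (div_eq_one.mp e))
    have hy' : φ (y : N) ≠ (y : N) := by
      simpa using hypow 1 (by rwa [pow_one])
    haveI := Fintype.ofFinite (Abelianization ↥R)
    let conjy : MulAut ↥R := MulAut.conjNormal (y : N)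
    let f : Abelianization ↥R →* Abelianization ↥R := Abelianization.map conjy.toMonoidHom
    let a : Abelianization ↥R → (↥R₂ →* ℂˣ) →* (↥R₂ →* ℂˣ) := fun v => cact R₂ ((v.out : ↥R) : N)
    have ha : ∀ (x : ↥R) (θ : ↥R₂ →* ℂˣ), a (Abelianization.of x) θ = cact R₂ (x : N) θ := by
      intro x θ
      obtain ⟨c, hc⟩ := QuotientGroup.mk_out_eq_mul (commutator ↥R) x
      show cact R₂ (((Abelianization.of x).out : ↥R) : N) θ = _
      rw [show (Abelianization.of x).out = x * (c : ↥R) from hc, Subgroup.coe_mul, cact_mul,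
        cact_self R₂ ⟨((c : ↥R) : N), (hmem₂ c).mp c.2⟩ θ]
    have hfof : ∀ (i : ℕ) (x : ↥R), ∃ x' : ↥R,
        (x' : N) = (y : N) ^ i * x * ((y : N) ^ i)⁻¹ ∧
          (⇑f)^[i] (Abelianization.of x) = Abelianization.of x' := by
      intro i
      induction i with
      | zero => intro x; exact ⟨x, by simp, rfl⟩
      | succ i ih =>
        intro x
        obtain ⟨x', hx', hf⟩ := ih x
        refine ⟨conjy x', ?_, ?_⟩
        · rw [MulAut.conjNormal_apply, hx', pow_succ']
          group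
        · rw [Function.iterate_succ_apply', hf, Abelianization.map_of]
          rfl
    have hfree : ∀ i, 0 < i → i < orderOf (y : N) → ∀ v, (⇑f)^[i] v = v → v = 1 := by
      intro i hi0 hi v hv
      obtain ⟨x, rfl⟩ := QuotientGroup.mk_surjective v
      obtain ⟨x', hx', hf⟩ := hfof i x
      have hne' := hypow i fun e => pow_ne_one_of_lt_orderOf hi0.ne' hi (by
        rw [← SubmonoidClass.coe_pow, e, OneMemClass.coe_one])
      have hd : (y : N) ^ i ∈ D := D.pow_mem y.2 i
      have hc : (x : N)⁻¹ * x' ∈ R₂ := (hmem₂ _).mp (QuotientGroup.eq.mp (hv.symm.trans hf))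
      let δ : R₂ → R₂ := fun s => ⟨(s : N)⁻¹ * ((y : N) ^ i * s * ((y : N) ^ i)⁻¹),
        R₂.mul_mem (R₂.inv_mem s.2) ((inferInstance : R₂.Normal).conj_mem s s.2 _)⟩
      have hinj : Function.Injective δ := by
        intro s t e
        have e1 : (s : N)⁻¹ * ((y : N) ^ i * s * ((y : N) ^ i)⁻¹) =
            (t : N)⁻¹ * ((y : N) ^ i * t * ((y : N) ^ i)⁻¹) := congrArg Subtype.val e
        refine Subtype.ext (mul_inv_eq_one.mp (H.fixed_point_free hd hne'
          (hR₂R (R₂.mul_mem s.2 (R₂.inv_mem t.2))) ?_))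
        calc (s : N) * (t : N)⁻¹ * (y : N) ^ i
            = (s : N) * ((t : N)⁻¹ * ((y : N) ^ i * t * ((y : N) ^ i)⁻¹)) * ((y : N) ^ i) *
                (t : N)⁻¹ := by group
          _ = (s : N) * ((s : N)⁻¹ * ((y : N) ^ i * s * ((y : N) ^ i)⁻¹)) * ((y : N) ^ i) *
                (t : N)⁻¹ := by rw [e1]
          _ = _ := by group
      obtain ⟨s, hs⟩ := Finite.injective_iff_surjective.mp hinj ⟨_, hc⟩
      have e1 : (s : N)⁻¹ * ((y : N) ^ i * s * ((y : N) ^ i)⁻¹) = (x : N)⁻¹ * x' :=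
        congrArg Subtype.val hs
      rw [hx'] at e1
      have e2 := H.fixed_point_free hd hne' (R.mul_mem x.2 (R.inv_mem (hR₂R s.2)))
        (r := (x : N) * (s : N)⁻¹) (by
          calc (x : N) * (s : N)⁻¹ * (y : N) ^ i
              = (x : N) * ((s : N)⁻¹ * ((y : N) ^ i * s * ((y : N) ^ i)⁻¹)) * (y : N) ^ i *
                  (s : N)⁻¹ := by group
            _ = (x : N) * ((x : N)⁻¹ * ((y : N) ^ i * x * ((y : N) ^ i)⁻¹)) * (y : N) ^ i *
                  (s : N)⁻¹ := by rw [e1]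
            _ = _ := by group)
      exact (QuotientGroup.eq_one_iff x).mpr ((hmem₂ x).mpr (mul_inv_eq_one.mp e2 ▸ s.2))
    have hfix : ∀ θ : ↥R₂ →* ℂˣ, (∀ v, a v θ = θ) → θ = 1 := by
      intro θ hθ
      have hall : ∀ x ∈ R, cact R₂ x θ = θ := fun x hx => by
        rw [← ha ⟨x, hx⟩ θ]; exact hθ _
      refine MonoidHom.ext fun s => ?_
      have hsub : ⁅R₂, R⁆ ≤ θ.ker.map R₂.subtype := Subgroup.commutator_le.mpr fun p hp q hq => by
        refine ⟨⟨p, hp⟩ * ⟨q * p⁻¹ * q⁻¹, (inferInstance : R₂.Normal).conj_mem _ (R₂.inv_mem hp) q⟩,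
          MonoidHom.mem_ker.mpr ?_, ?_⟩
        · rw [map_mul, hinvR hall q hq p⁻¹ (R₂.inv_mem hp)]
          rw [show (⟨p⁻¹, R₂.inv_mem hp⟩ : ↥R₂) = ⟨p, hp⟩⁻¹ from rfl, map_inv, mul_inv_cancel]
        · show p * (q * p⁻¹ * q⁻¹) = ⁅p, q⁆
          group
      rw [hL] at hsub
      obtain ⟨s', hs', e⟩ := hsub s.2
      rw [← show s' = s from Subtype.ext e]
      exact MonoidHom.mem_ker.mp hs'
    have hbo : ∀ θ : ↥R₂ →* ℂˣ, (⇑(cact R₂ (y : N)))^[orderOf (y : N)] θ = θ := by
      have hit : ∀ (i : ℕ) θ, (⇑(cact R₂ (y : N)))^[i] θ = cact R₂ ((y : N) ^ i) θ := by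
        intro i
        induction i with
        | zero => intro θ; rw [pow_zero, cact_one]; rfl
        | succ i ih => intro θ; rw [Function.iterate_succ_apply', ih, ← cact_mul, pow_succ']
      intro θ
      rw [hit, pow_orderOf_eq_one, cact_one]
    have key : ∀ θ : ↥R₂ →* ℂˣ, θ ^ Fintype.card (Abelianization ↥R) = 1 :=
      pow_card_eq_one_of_frobenius a
        (fun θ => by rw [← map_one Abelianization.of, ha, OneMemClass.coe_one, cact_one])
        (fun v w θ => by
          obtain ⟨v, rfl⟩ := QuotientGroup.mk_surjective v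
          obtain ⟨w, rfl⟩ := QuotientGroup.mk_surjective w
          show a (Abelianization.of v * Abelianization.of w) θ =
            a (Abelianization.of v) (a (Abelianization.of w) θ)
          rw [← map_mul, ha, ha, ha, Subgroup.coe_mul, cact_mul])
        f (cact R₂ (y : N)) (orderOf (y : N)) (orderOf_pos _) hbo
        (fun v θ => by
          obtain ⟨v, rfl⟩ := QuotientGroup.mk_surjective v
          show cact R₂ (y : N) (a (Abelianization.of v) θ) =
            a (f (Abelianization.of v)) (cact R₂ (y : N) θ)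
          rw [Abelianization.map_of, ha, ha, ← cact_mul, ← cact_mul]
          refine congrArg (fun z => cact R₂ z θ) ?_
          show (y : N) * v = ((MulAut.conjNormal (H := R) (y : N) v : ↥R) : N) * (y : N)
          rw [MulAut.conjNormal_apply, inv_mul_cancel_right])
        hfree (fun θ hθ => H.cact_fpf R₂ hR₂R y.2 hy' hθ) hfix
    have hV : IsPGroup r (Abelianization ↥R) := fun v => ⟨1, by
      obtain ⟨x, rfl⟩ := QuotientGroup.mk_surjective v
      rw [pow_one]
      exact (QuotientGroup.eq_one_iff _).mpr (hpow x)⟩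
    obtain ⟨k, hk⟩ := IsPGroup.iff_card.mp hV
    rw [Nat.card_eq_fintype_card] at hk
    have hX : IsPGroup r (↥R₂ →* ℂˣ) := fun θ => ⟨k, by rw [← hk]; exact key θ⟩
    letI : MulAction (Abelianization ↥R) (↥R₂ →* ℂˣ) :=
      { smul := fun v θ => a v θ
        one_smul := fun θ => by
          show a 1 θ = θ
          rw [← map_one Abelianization.of, ha, OneMemClass.coe_one, cact_one]
        mul_smul := fun v w θ => by
          obtain ⟨v, rfl⟩ := QuotientGroup.mk_surjective v
          obtain ⟨w, rfl⟩ := QuotientGroup.mk_surjective w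
          show a (Abelianization.of v * Abelianization.of w) θ =
            a (Abelianization.of v) (a (Abelianization.of w) θ)
          rw [← map_mul, ha, ha, ha, Subgroup.coe_mul, cact_mul] }
    haveI : Nontrivial ↥R₂ := (Subgroup.nontrivial_iff_ne_bot _).mpr hR₂ne
    obtain ⟨b₀, hb₀⟩ : ∃ b, b ∉ commutator ↥R₂ := by
      by_contra hall
      push Not at hall
      have := IsSolvable.commutator_lt_of_ne_bot (G := ↥R₂) (H := ⊤) top_ne_bot
      rw [← commutator_def, show commutator ↥R₂ = ⊤ from eq_top_iff.mpr fun x _ => hall x] at this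
      exact lt_irrefl _ this
    obtain ⟨θ₀, -, hθ₀⟩ := exists_lin _ le_rfl hb₀
    have hdvd : r ∣ Nat.card (↥R₂ →* ℂˣ) := by
      obtain ⟨j, hj⟩ := IsPGroup.iff_card.mp hX
      rw [hj]
      refine dvd_pow_self r fun j0 => hθ₀ ?_
      rw [j0, pow_zero, Nat.card_eq_one_iff_unique] at hj
      haveI := hj.1
      rw [Subsingleton.elim θ₀ 1]
      rfl
    obtain ⟨b, hb, hb1⟩ := hV.exists_fixed_point_of_prime_dvd_card_of_fixed_point
      (α := ↥R₂ →* ℂˣ) hdvd (a := 1) (fun v => map_one (a v))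
    exact hb1 (hfix b hb).symm
  · -- a central section
    set L := ⁅R₂, R⁆ with hLdef
    haveI : L.Normal := Subgroup.commutator_normal R₂ R
    have hLR₂ : L ≤ R₂ := Subgroup.commutator_le.mpr fun p hp q hq => by
      rw [commutatorElement_def, mul_assoc p q, mul_assoc p]
      exact R₂.mul_mem hp ((inferInstance : R₂.Normal).conj_mem _ (R₂.inv_mem hp) q)
    let X : Subgroup (↥R₂ →* ℂˣ) :=
      { carrier := {θ | ∀ x ∈ R, cact R₂ x θ = θ}
        one_mem' := fun x _ => map_one _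
        mul_mem' := fun {p q} hp hq x hx => by rw [map_mul, hp x hx, hq x hx]
        inv_mem' := fun {p} hp x hx => by rw [map_inv, hp x hx] }
    have hXτ : ∀ d ∈ D, ∀ θ ∈ X, cact R₂ d θ ∈ X := by
      intro d _ θ hθ x hx
      have hx' : d⁻¹ * x * d ∈ R := by
        simpa using (inferInstance : R.Normal).conj_mem x hx d⁻¹
      rw [← cact_mul, show x * d = d * (d⁻¹ * x * d) by group, cact_mul, hθ _ hx']
    have hXσ : ∀ θ ∈ X, sact R₂ φ hR₂φ θ ∈ X := by
      intro θ hθ x hx
      obtain ⟨x', hx', rfl⟩ : ∃ x' ∈ R, φ x' = x := by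
        refine ⟨φ.symm x, ?_, φ.apply_symm_apply x⟩
        have e := Subgroup.characteristic_iff_comap_eq.mp
          (inferInstance : (commutator N).Characteristic) φ.symm
        rw [hRdef, ← e] at hx
        exact hx
      rw [← sact_cact, hθ x' hx']
    obtain ⟨B, hBτ, hBγ⟩ := H.exists_sys R₂ hR₂R hR₂φ X (fun θ hθ => hθ) hXτ hXσ
    haveI : Nontrivial X := by
      obtain ⟨s, hs, hsL⟩ : ∃ s ∈ R₂, s ∉ L := by
        by_contra hall
        push Not at hall
        exact hL (le_antisymm hLR₂ hall)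
      obtain ⟨θ, hθL, hθs⟩ := exists_lin (L.subgroupOf R₂) (by
        refine Subgroup.commutator_le.mpr fun p _ q _ => ?_
        exact Subgroup.commutator_mem_commutator p.2 (hR₂R q.2)) (a := ⟨s, hs⟩) hsL
      refine ⟨⟨⟨θ, fun x hx => (cact_eq_iff _).mpr ((TwoDegrees73.mem_stab _).mpr fun t => ?_)⟩, 1,
        fun e => hθs ?_⟩⟩
      · have hmem : (x * t * x⁻¹) * (t : N)⁻¹ ∈ L := by
          rw [hLdef, Subgroup.commutator_comm]
          exact Subgroup.commutator_mem_commutator hx t.2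
        have e : (⟨x * t * x⁻¹, (inferInstance : R₂.Normal).conj_mem t t.2 x⟩ : ↥R₂) =
            ⟨(x * t * x⁻¹) * (t : N)⁻¹, hLR₂ hmem⟩ * t := Subtype.ext (by simp)
        rw [e, map_mul, hθL _ (Subgroup.mem_subgroupOf.mpr hmem), one_mul]
      · rw [show θ = 1 from congrArg Subtype.val e]
        rfl
    -- the bilinear identities
    have hbil : ∀ {θ : ↥R₂ →* ℂˣ}, θ ∈ X → ∀ p q c : ↥R,
        θ ⟨⁅((p * q : ↥R) : N), (c : N)⁆, Subgroup.commutator_mem_commutator (p * q).2 c.2⟩ =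
        θ ⟨⁅(p : N), (c : N)⁆, Subgroup.commutator_mem_commutator p.2 c.2⟩ *
          θ ⟨⁅(q : N), (c : N)⁆, Subgroup.commutator_mem_commutator q.2 c.2⟩ := by
      intro θ hθ p q c
      rw [← hinvR hθ p p.2 ⁅(q : N), (c : N)⁆ (Subgroup.commutator_mem_commutator q.2 c.2), mul_comm,
        ← map_mul]
      exact congrArg θ (Subtype.ext (by
        show ⁅((p : N) * q), (c : N)⁆ = (p : N) * ⁅(q : N), (c : N)⁆ * (p : N)⁻¹ * ⁅(p : N), (c : N)⁆
        group))
    have hbil' : ∀ {θ : ↥R₂ →* ℂˣ}, θ ∈ X → ∀ c p q : ↥R,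
        θ ⟨⁅(c : N), ((p * q : ↥R) : N)⁆, Subgroup.commutator_mem_commutator c.2 (p * q).2⟩ =
        θ ⟨⁅(c : N), (p : N)⁆, Subgroup.commutator_mem_commutator c.2 p.2⟩ *
          θ ⟨⁅(c : N), (q : N)⁆, Subgroup.commutator_mem_commutator c.2 q.2⟩ := by
      intro θ hθ c p q
      rw [← hinvR hθ p p.2 ⁅(c : N), (q : N)⁆ (Subgroup.commutator_mem_commutator c.2 q.2),
        ← map_mul]
      exact congrArg θ (Subtype.ext (by
        show ⁅(c : N), (p : N) * q⁆ = ⁅(c : N), (p : N)⁆ * ((p : N) * ⁅(c : N), (q : N)⁆ * (p : N)⁻¹)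
        group))
    have hXexp : ∀ x : X, x ^ r = 1 := by
      intro θ
      refine Subtype.ext (MonoidHom.ext fun s => ?_)
      have hsub : R₂ ≤ ((θ : ↥R₂ →* ℂˣ) ^ r).ker.map R₂.subtype := by
        refine Subgroup.commutator_le.mpr fun p hp q hq =>
          ⟨⟨⁅p, q⁆, Subgroup.commutator_mem_commutator hp hq⟩, MonoidHom.mem_ker.mpr ?_, rfl⟩
        rw [MonoidHom.pow_apply]
        let Φ : ↥R →* ℂˣ :=
          { toFun := fun c => (θ : ↥R₂ →* ℂˣ) ⟨⁅(c : N), q⁆,
              Subgroup.commutator_mem_commutator c.2 hq⟩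
            map_one' := by
              refine Eq.trans (congrArg _ (Subtype.ext (?_ : _ = ((1 : ↥R₂) : N)))) (map_one _)
              simp
            map_mul' := fun u w => hbil θ.2 u w ⟨q, hq⟩ }
        show (Φ ⟨p, hp⟩) ^ r = 1
        rw [← map_pow]
        have hz := (hmem₂ _).mp (hpow ⟨p, hp⟩)
        set z : N := (((⟨p, hp⟩ : ↥R) ^ r : ↥R) : N) with hzdef
        show (θ : ↥R₂ →* ℂˣ) ⟨⁅z, q⁆, _⟩ = 1
        have e : (⟨⁅z, q⁆, Subgroup.commutator_mem_commutator ((⟨p, hp⟩ : ↥R) ^ r).2 hq⟩ : ↥R₂) =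
            ⟨z, hz⟩ * ⟨q * z⁻¹ * q⁻¹, (inferInstance : R₂.Normal).conj_mem _ (R₂.inv_mem hz) q⟩ :=
          Subtype.ext (by show ⁅z, q⁆ = z * (q * z⁻¹ * q⁻¹); group)
        rw [e, map_mul, hinvR θ.2 q hq z⁻¹ (R₂.inv_mem hz),
          show (⟨z⁻¹, R₂.inv_mem hz⟩ : ↥R₂) = ⟨z, hz⟩⁻¹ from rfl, map_inv, mul_inv_cancel]
      obtain ⟨s', hs', e⟩ := hsub s.2
      rw [← show s' = s from Subtype.ext e]
      exact MonoidHom.mem_ker.mp hs'
    have hcard : Nat.card X = Nat.card (↥R →* ℂˣ) := by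
      obtain ⟨v, hv⟩ := IsPGroup.iff_card.mp (show IsPGroup r X from fun x => ⟨1, by rw [pow_one, hXexp]⟩)
      obtain ⟨u, hu⟩ := IsPGroup.iff_card.mp
        (show IsPGroup r B.fixX from fun x => ⟨1, by rw [pow_one]; exact Subtype.ext (hXexp x)⟩)
      obtain ⟨v', hv'⟩ := IsPGroup.iff_card.mp
        (show IsPGroup r (⊤ : Subgroup (↥R →* ℂˣ)) from fun x => ⟨1, by rw [pow_one, hexp]⟩)
      obtain ⟨u', hu'⟩ := IsPGroup.iff_card.mp
        (show IsPGroup r A.fixX from fun x => ⟨1, by rw [pow_one]; exact Subtype.ext (hexp x)⟩)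
      have e1 := B.law
      have e2 := A.law
      have hidx : B.fixD.index = A.fixD.index := by
        congr 1
        ext d
        rw [B.mem_fixD, A.mem_fixD, hBγ, hγ]
      rw [hv, hu, hidx] at e1
      rw [hv', hu'] at e2
      have hu0 : 0 < u := Nat.pos_of_ne_zero fun e => by
        rw [e, pow_zero, Nat.sub_self, mul_zero, ← hv] at e1
        have := Finite.one_lt_card (α := X)
        omega
      have hu0' : 0 < u' := Nat.pos_of_ne_zero fun e => by
        rw [e, pow_zero, Nat.sub_self, mul_zero, ← hv'] at e2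
        have := Finite.one_lt_card (α := (⊤ : Subgroup (↥R →* ℂˣ)))
        omega
      rw [← Subgroup.card_top (G := ↥R →* ℂˣ), hv, hv',
        exponent_unique hr A.one_lt_index hu0 hu0' e1 e2]
    by_cases hdeg : ∃ θ : X, θ ≠ 1 ∧ ∃ a : ↥R, (a : N) ∉ R₂ ∧ ∀ b : ↥R,
        (θ : ↥R₂ →* ℂˣ) ⟨⁅(a : N), (b : N)⁆, Subgroup.commutator_mem_commutator a.2 b.2⟩ = 1
    swap
    · -- nondegenerate: a proper injection
      push Not at hdeg
      have ha₀' : (a₀ : N) ∉ R₂ := fun e => ha₀ ((hmem₂ a₀).mpr e)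
      let Ψ : X → (↥R →* ℂˣ) := fun θ =>
        { toFun := fun b => (θ : ↥R₂ →* ℂˣ) ⟨⁅(a₀ : N), (b : N)⁆,
            Subgroup.commutator_mem_commutator a₀.2 b.2⟩
          map_one' := by
            refine Eq.trans (congrArg _ (Subtype.ext (?_ : _ = ((1 : ↥R₂) : N)))) (map_one _)
            simp
          map_mul' := fun p q => hbil' θ.2 a₀ p q }
      have hinj : Function.Injective Ψ := by
        intro θ θ' e
        by_contra hne'
        obtain ⟨b, hb⟩ := hdeg (θ / θ') (fun e' => hne' (div_eq_one.mp e')) a₀ ha₀'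
        apply hb
        have e1 := DFunLike.congr_fun e b
        show ((θ : ↥R₂ →* ℂˣ) / (θ' : ↥R₂ →* ℂˣ)) _ = 1
        rw [MonoidHom.div_apply]
        exact div_eq_one.mpr e1
      have hbij := (Nat.bijective_iff_injective_and_card Ψ).mpr ⟨hinj, hcard⟩
      obtain ⟨θ, hθ⟩ := hbij.2 l₁
      apply hl₁
      rw [← hθ]
      show (θ : ↥R₂ →* ℂˣ) ⟨⁅(a₀ : N), (a₀ : N)⁆, _⟩ = 1
      refine Eq.trans (congrArg _ (Subtype.ext (?_ : _ = ((1 : ↥R₂) : N)))) (map_one _)
      simp
    obtain ⟨θ, hθ1, a, ha, hab⟩ := hdeg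
    haveI := Fintype.ofFinite ↥R
    haveI := Fintype.ofFinite ↥(commutator ↥R)
    let θ' : ↥(commutator ↥R) →* ℂˣ := (θ : ↥R₂ →* ℂˣ).comp
      ((R.subtype.comp (commutator ↥R).subtype).codRestrict R₂ fun x => (hmem₂ x).mp x.2)
    have hθ'inv : ∀ g : ↥R, conjBy (commutator ↥R) (fun x => (θ' x : ℂ)) g = fun x => (θ' x : ℂ) :=
      fun g => funext fun x => congrArg Units.val
        ((congrArg (θ : ↥R₂ →* ℂˣ) (Subtype.ext (by rfl))).trans
          (hinvR θ.2 g g.2 (x : ↥R) ((hmem₂ x).mp x.2)))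
    obtain ⟨χ, hχ, hχθ⟩ := CharactersDeep.Clifford.exists_over (commutator ↥R) (isIrr_linChar θ')
    obtain ⟨e, he0, he, -⟩ := CharactersDeep.Clifford.restrict_eq_smul (commutator ↥R) hχ
      (isIrr_linChar θ') hθ'inv hχθ
    have he' : ∀ x : ↥(commutator ↥R), χ (x : ↥R) = e * (θ' x : ℂ) := fun x => congrFun he x
    have he1 : χ 1 = e := by simpa using he' 1
    have hχnl : χ 1 ≠ 1 := by
      intro h1
      refine hθ1 (Subtype.ext (MonoidHom.ext fun s => ?_))
      have e1 := he' ⟨⟨s, hR₂R s.2⟩, (hmem₂ _).mpr s.2⟩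
      rw [SameDegree.linear_commutator hχ h1 ((hmem₂ _).mpr s.2), h1] at e1
      have e2 : (e : ℂ) = 1 := by rw [← he1, h1]
      rw [e2, one_mul] at e1
      exact Units.ext e1.symm
    -- some twist of `χ` differs from `χ`
    obtain ⟨l, hl⟩ : ∃ l : ↥R →* ℂˣ, (fun x => χ x * (l x : ℂ)) ≠ χ := by
      by_contra hall
      push Not at hall
      obtain ⟨l, -, hl⟩ := exists_lin (commutator ↥R) le_rfl fun e => ha ((hmem₂ a).mp e)
      have h0 : χ a = 0 := by
        by_contra h0
        exact hl (Units.ext (mul_left_cancel₀ h0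
          ((congrFun (hall l) a).trans (mul_one _).symm)))
      obtain ⟨n, ρ, hρ, hρχ⟩ := hχ
      haveI := hρ
      have hcomm : ∀ b, ρ a * ρ b = ρ b * ρ a := by
        intro b
        have h1 : ρ.character ⁅a, b⁆ = ρ.character 1 := by
          rw [hρχ, he' ⟨⁅a, b⁆, Subgroup.commutator_mem_commutator (Subgroup.mem_top _)
            (Subgroup.mem_top _)⟩, he1]
          convert mul_one (e : ℂ) using 2
          exact congrArg Units.val (hab b)
        have h2 := PrincipalBlock.rep_eq_one_of_char_eq ρ h1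
        have e3 : a * b = ⁅a, b⁆ * (b * a) := by group
        rw [← map_mul, e3, map_mul, h2, one_mul, map_mul]
      obtain ⟨c, hc⟩ := schur_scalar ρ (ρ a) fun g x => by
        rw [← Module.End.mul_apply, hcomm, Module.End.mul_apply]
      have hn : n ≠ 0 := by
        rintro rfl
        rw [← hρχ, Representation.char_one, Module.finrank_fin_fun, Nat.cast_zero] at he1
        exact he0.ne' (by exact_mod_cast he1.symm)
      have hc0 : c = 0 := by
        rw [← hρχ, Representation.character, hc, map_smul, LinearMap.trace_id,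
          Module.finrank_fin_fun, smul_eq_mul] at h0
        exact (mul_eq_zero.mp h0).resolve_right (Nat.cast_ne_zero.mpr hn)
      have h1 : ρ a * ρ a⁻¹ = 1 := by rw [← map_mul, mul_inv_cancel, map_one]
      rw [hc, hc0, zero_smul, zero_mul] at h1
      have h2 := congrFun (LinearMap.congr_fun h1 fun _ => 1) ⟨0, Nat.pos_of_ne_zero hn⟩
      simp at h2
    -- one of `χ`, `χ * l` has small inertia group
    set T₁ := TwoDegrees73.stab R l₁ with hT₁
    have hmove : ∀ {d : N}, d ∈ D → d ∉ T₁ → ∀ μ : ↥R →* ℂˣ, cact R d μ = μ → μ = 1 := by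
      intro d hd hdT μ hμ
      by_contra hμ1
      exact hdT (H.stab_le hμ1 ((cact_eq_iff _).mp hμ))
    have hconj : ∀ (d : N) (μ : ↥R →* ℂˣ) (x : ↥R),
        cact R d μ x = μ ((MulAut.conjNormal (H := R) d⁻¹) x) := fun d μ x => rfl
    let tw : (↥R →* ℂˣ) → ↥R → ℂ := fun μ x => χ x * (μ x : ℂ)
    have htw : ∀ (d : N) (μ : ↥R →* ℂˣ), conjBy R (tw μ) d⁻¹ =
        fun x => conjBy R χ d⁻¹ x * (cact R d μ x : ℂ) := fun d μ => funext fun x => by
      show χ _ * _ = χ _ * _
      rw [cact_apply]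
      congr 3
      exact Subtype.ext (by simp)
    let W : Subgroup (↥R →* ℂˣ) :=
      { carrier := {μ | tw μ = χ}
        one_mem' := funext fun x => by simp [tw]
        mul_mem' := fun {p q} (hp : tw p = χ) (hq : tw q = χ) => funext fun x => by
          show χ x * ((p x * q x : ℂˣ) : ℂ) = χ x
          have e1 : χ x * (p x : ℂ) = χ x := congrFun hp x
          have e2 : χ x * (q x : ℂ) = χ x := congrFun hq x
          rw [Units.val_mul, ← mul_assoc, e1, e2]
        inv_mem' := fun {p} (hp : tw p = χ) => funext fun x => by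
          show χ x * ((p x)⁻¹ : ℂˣ) = χ x
          conv_lhs => rw [← congrFun hp x]
          show χ x * (p x : ℂ) * _ = _
          rw [mul_assoc, ← Units.val_mul, mul_inv_cancel, Units.val_one, mul_one] }
    have hlW : l ∉ W := hl
    have hWinv : ∀ d : N, conjBy R χ d⁻¹ = χ → ∀ μ ∈ W, cact R d μ ∈ W := by
      intro d hd μ (hμ : tw μ = χ)
      show tw (cact R d μ) = χ
      have := htw d μ
      rw [hμ, hd] at this
      exact this.symm
    have hcancel : ∀ {d : N}, d ∈ D → d ∉ T₁ → conjBy R χ d⁻¹ = χ →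
        ∀ μ : ↥R →* ℂˣ, cact R d μ / μ ∈ W → μ ∈ W := fun hd hdT hχd μ hμ =>
      mem_of_diff_mem (cact R _) W (hWinv _ hχd) (hmove hd hdT) hμ
    have hsmall : (∀ d ∈ D, conjBy R χ d⁻¹ = χ → d ∈ T₁) ∨
        ∀ d ∈ D, conjBy R (tw l) d⁻¹ = tw l → d ∈ T₁ := by
      by_contra hboth
      push Not at hboth
      obtain ⟨⟨d, hd, hχd, hdT⟩, ⟨c, hc, hlc, hcT⟩⟩ := hboth
      let μ := l / cact R c l
      have hχc : conjBy R χ c⁻¹ = tw μ := funext fun x => by
        have h1 : conjBy R χ c⁻¹ x * (cact R c l x : ℂ) = χ x * (l x : ℂ) := by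
          have := congrFun (htw c l) x
          rw [hlc] at this
          exact this.symm
        show conjBy R χ c⁻¹ x = χ x * ((l x / cact R c l x : ℂˣ) : ℂ)
        rw [Units.val_div_eq_div_val, mul_div_assoc', eq_div_iff (Units.ne_zero _), h1]
      have hμW : μ ∈ W := by
        refine hcancel hd hdT hχd μ ?_
        show tw (cact R d μ / μ) = χ
        have h1 : conjBy R (tw μ) d⁻¹ = tw μ := by
          rw [← hχc, conjBy_mul, ← mul_inv_rev, H.comm d hd c hc, mul_inv_rev, ← conjBy_mul, hχd]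
        rw [htw, hχd] at h1
        funext x
        have h2 : χ x * (cact R d μ x : ℂ) = χ x * (μ x : ℂ) := congrFun h1 x
        show χ x * ((cact R d μ x / μ x : ℂˣ) : ℂ) = χ x
        rw [Units.val_div_eq_div_val, mul_div_assoc', h2, mul_div_assoc, div_self (Units.ne_zero _),
          mul_one]
      have hχc' : conjBy R χ c⁻¹ = χ := hχc.trans hμW
      refine hlW (hcancel hc hcT hχc' l ?_)
      have : cact R c l / l = μ⁻¹ := MonoidHom.ext fun x => by
        show cact R c l x / l x = (l x / cact R c l x)⁻¹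
        rw [inv_div]
      rw [this]
      exact W.inv_mem hμW
    have hfin : ∀ θ₀ : ↥R → ℂ, Cfsg.IsIrrCharacter ↥R θ₀ → θ₀ 1 ≠ 1 →
        (∀ d ∈ D, conjBy R θ₀ d⁻¹ = θ₀ → d ∈ T₁) → False := by
      intro θ₀ hθ₀ hθ₀1 hsm
      obtain ⟨ψ, hψ, hcon⟩ := CharactersDeep.Clifford.exists_over R hθ₀
      refine hθ₀1 (H.no_big_degree hl₁1 hψ hθ₀ hcon fun n hn => ?_).2
      obtain ⟨x, hx, d, hd, rfl⟩ := H.exists_decomp n
      have hxfix : conjBy R θ₀ x = θ₀ := funext fun t =>
        (congrArg θ₀ (Subtype.ext (by simp))).trans (isClassFunction_of_isIrr hθ₀ t ⟨x, hx⟩)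
      rw [← conjBy_mul, hxfix] at hn
      refine T₁.mul_mem ((cact_eq_iff _).mp (cact_self R ⟨x, hx⟩ l₁)) (hsm d hd ?_)
      conv_lhs => rw [← hn]
      rw [conjBy_mul, mul_inv_cancel, conjBy_one]
    rcases hsmall with hs | hs
    · exact hfin χ hχ hχnl hs
    · exact hfin (tw l) (Glauberman.isIrr_mul_hom hχ l) (by simpa [tw] using hχnl) hs

/-- **Only one nonlinear degree.** -/
theorem degree_unique [Group.IsSolvable N] {ψ ψ' : N → ℂ} (hψ : Cfsg.IsIrrCharacter N ψ)
    (hψ' : Cfsg.IsIrrCharacter N ψ') (h1 : ψ 1 ≠ 1) (h1' : ψ' 1 ≠ 1) : ψ 1 = ψ' 1 := by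
  have hab := H.commutator_commutator_eq_bot
  obtain ⟨l, hl⟩ : ∃ l : ↥(commutator N) →* ℂˣ, l ≠ 1 := by
    by_contra hall
    push Not at hall
    refine h1 (linear_of_trivial hψ fun c hc => ?_)
    have : (⟨c, hc⟩ : ↥(commutator N)) ∈ commutator ↥(commutator N) := by
      by_contra hna
      obtain ⟨l, -, hl⟩ := exists_lin _ le_rfl hna
      exact hl (by rw [hall l]; rfl)
    rw [hab, Subgroup.mem_bot] at this
    rw [show c = 1 from congrArg Subtype.val this]
  rw [H.degree_of_abelian hab hl hψ h1, H.degree_of_abelian hab hl hψ' h1']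

end Hyp

end CfsgLib.TwoComponents73
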