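import Mathlib

/-!
# Semilinear fixed-point-free systems

An abelian group `D` acts on a finite abelian group `X`, an automorphism `σ` of `h`-power order
intertwines this action with an automorphism `γ` of `D` with `γ ^ h = 1`, the elements moved by
`γ` act without fixed points, every `D`-orbit is `σ`-invariant and every orbit has size prime
to `h`.  Then `|X| - 1 = m (|C_X(σ)| - 1)` where `m` is the index of `C_D(γ)`; as a consequence
such a system has no invariant subgroups, and its order is determined by `m` and the prime.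
-/

set_option autoImplicit false
set_option linter.unusedSectionVars false

namespace CfsgLib.TwoComponents73

/-- Translation by a fixed-point-free endomorphism preserves membership in invariant subgroups. -/
theorem mem_of_diff_mem {X : Type*} [CommGroup X] [Finite X] (f : X →* X) (W : Subgroup X)
    (hW : ∀ w ∈ W, f w ∈ W) (hf : ∀ w, f w = w → w = 1) {x : X} (hx : f x / x ∈ W) : x ∈ W := by
  let δ : W → W := fun w => ⟨f w / w, W.div_mem (hW w w.2) w.2⟩
  have hinj : Function.Injective δ := by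
    intro a b hab
    have h1 : f a / a = f b / b := congrArg Subtype.val hab
    refine Subtype.ext (div_eq_one.mp (hf _ ?_))
    rw [map_div, div_eq_div_iff_div_eq_div]
    exact h1
  obtain ⟨w, hw⟩ := Finite.injective_iff_surjective.mp hinj ⟨f x / x, hx⟩
  have h1 : f w / w = f x / x := congrArg Subtype.val hw
  have h2 : (x : X) / w = 1 := hf _ (by
    rw [map_div, div_eq_div_iff_div_eq_div]
    exact h1.symm)
  rw [div_eq_one.mp h2]
  exact w.2

/-- The data of a semilinear fixed-point-free system. -/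
structure Sys (D X : Type*) [CommGroup D] [CommGroup X] where
  /-- the action -/
  τ : D → X →* X
  /-- the semilinear automorphism -/
  σ : X →* X
  /-- its effect on `D` -/
  γ : MulAut D
  /-- the prime -/
  h : ℕ
  hprime : h.Prime
  τ_one : ∀ x, τ 1 x = x
  τ_mul : ∀ d e x, τ (d * e) x = τ d (τ e x)
  σ_pow : ∃ k, ∀ x, (⇑σ)^[h ^ k] x = x
  γ_pow : ∀ d, (⇑γ)^[h] d = d
  γ_ne : ∃ d, γ d ≠ d
  comm : ∀ d x, σ (τ d x) = τ (γ d) (σ x)
  fpf : ∀ d, γ d ≠ d → ∀ x, τ d x = x → x = 1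
  orbit : ∀ x, ∃ d, σ x = τ d x
  coprime : ∀ x, x ≠ 1 → ∃ n : ℕ, ¬ h ∣ n ∧ ∀ d, τ (d ^ n) x = x

namespace Sys

variable {D X : Type*} [CommGroup D] [CommGroup X] (A : Sys D X)

/-- The fixed points of `γ`. -/
def fixD : Subgroup D where
  carrier := {d | A.γ d = d}
  one_mem' := map_one _
  mul_mem' {a b} ha hb := by
    show A.γ (a * b) = a * b
    rw [map_mul, ha, hb]
  inv_mem' {a} ha := by
    show A.γ a⁻¹ = a⁻¹
    rw [map_inv, ha]

/-- The fixed points of `σ`. -/
def fixX : Subgroup X where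
  carrier := {x | A.σ x = x}
  one_mem' := map_one _
  mul_mem' {a b} ha hb := by
    show A.σ (a * b) = a * b
    rw [map_mul, ha, hb]
  inv_mem' {a} ha := by
    show A.σ a⁻¹ = a⁻¹
    rw [map_inv, ha]

theorem mem_fixD {d : D} : d ∈ A.fixD ↔ A.γ d = d := Iff.rfl

theorem mem_fixX {x : X} : x ∈ A.fixX ↔ A.σ x = x := Iff.rfl

theorem τ_inv_apply (d : D) (x : X) : A.τ d⁻¹ (A.τ d x) = x := by
  rw [← A.τ_mul, inv_mul_cancel, A.τ_one]

theorem τ_apply_inv (d : D) (x : X) : A.τ d (A.τ d⁻¹ x) = x := by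
  rw [← A.τ_mul, mul_inv_cancel, A.τ_one]

theorem τ_injective (d : D) : Function.Injective (A.τ d) :=
  Function.LeftInverse.injective (A.τ_inv_apply d)

theorem γ_fix_of_fix {d : D} {x : X} (hx : x ≠ 1) (h : A.τ d x = x) : A.γ d = d :=
  by_contra fun hd => hx (A.fpf d hd x h)

/-- No nontrivial difference `γ d / d` is fixed by `γ`. -/
theorem eq_of_diff_fixed {x : X} (hx : x ≠ 1) {d : D}
    (h : A.γ (A.γ d / d) = A.γ d / d) : A.γ d = d := by
  set c := A.γ d / d with hc
  have hd : A.γ d = c * d := by rw [hc, div_mul_cancel]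
  have hit : ∀ i : ℕ, (⇑A.γ)^[i] d = c ^ i * d := by
    intro i
    induction i with
    | zero => simp
    | succ i ih => rw [Function.iterate_succ_apply', ih, map_mul, map_pow, h, hd, pow_succ, mul_assoc]
  have hch : c ^ A.h = 1 := by
    have := hit A.h
    rw [A.γ_pow] at this
    exact mul_eq_right.mp this.symm
  obtain ⟨n, hn, hfix⟩ := A.coprime x hx
  have hcn : c ^ n = 1 := by
    have := A.γ_fix_of_fix hx (hfix d)
    rw [map_pow, hd, mul_pow] at this
    exact mul_eq_right.mp this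
  have hc1 : c = 1 := by
    have := pow_gcd_eq_one.mpr ⟨hcn, hch⟩
    rwa [(A.hprime.coprime_iff_not_dvd.mpr hn).symm.gcd_eq_one, pow_one] at this
  rw [hd, hc1, one_mul]

theorem fixed_iff {x : X} (hx : x ≠ 1) (hs : A.σ x = x) (d : D) :
    A.σ (A.τ d x) = A.τ d x ↔ A.γ d = d := by
  rw [A.comm, hs]
  refine ⟨fun h => A.eq_of_diff_fixed hx (A.γ_fix_of_fix hx ?_), fun h => by rw [h]⟩
  rw [div_eq_mul_inv, mul_comm, A.τ_mul, h, A.τ_inv_apply]

theorem exists_fixed_in_orbit {x : X} (hx : x ≠ 1) : ∃ d, A.σ (A.τ d x) = A.τ d x := by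
  obtain ⟨e, he⟩ := A.orbit x
  obtain ⟨n, hn, hfix⟩ := A.coprime x hx
  let ρ : D →* D :=
    { toFun := fun d => A.γ d / d
      map_one' := by simp
      map_mul' := fun a b => by rw [map_mul, mul_div_mul_comm] }
  let T : Subgroup D :=
    { carrier := {d | A.τ d x = x}
      one_mem' := A.τ_one x
      mul_mem' := fun {a b} (ha : A.τ a x = x) (hb : A.τ b x = x) => by
        show A.τ (a * b) x = x
        rw [A.τ_mul, hb, ha]
      inv_mem' := fun {a} (ha : A.τ a x = x) => by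
        show A.τ a⁻¹ x = x
        conv_lhs => rw [← ha]
        exact A.τ_inv_apply a x }
  let S := T ⊔ ρ.range
  have hγS : ∀ d, A.γ d / d ∈ S := fun d => (le_sup_right : ρ.range ≤ S) ⟨d, rfl⟩
  have hit : ∀ i : ℕ, ∃ P, (⇑A.σ)^[i] x = A.τ P x ∧ P / e ^ i ∈ S := by
    intro i
    induction i with
    | zero => exact ⟨1, by simp [A.τ_one], by simp⟩
    | succ i ih =>
      obtain ⟨P, hP, hPS⟩ := ih
      refine ⟨A.γ P * e, by rw [Function.iterate_succ_apply', hP, A.comm, he, A.τ_mul], ?_⟩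
      have : A.γ P * e / e ^ (i + 1) = (A.γ P / P) * (P / e ^ i) := by
        rw [pow_succ, mul_comm (e ^ i) e, mul_comm (A.γ P) e, mul_div_mul_left_eq_div,
          div_mul_div_cancel]
      rw [this]
      exact S.mul_mem (hγS P) hPS
  obtain ⟨k, hk⟩ := A.σ_pow
  obtain ⟨P, hP, hPS⟩ := hit (A.h ^ k)
  rw [hk] at hP
  have heh : e ^ (A.h ^ k) ∈ S := by
    have h1 : P ∈ S := (le_sup_left : T ≤ S) hP.symm
    have h2 := S.div_mem h1 hPS
    rwa [div_div_cancel] at h2
  have hen : e ^ n ∈ S := (le_sup_left : T ≤ S) (hfix e)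
  have heS : e ∈ S := by
    have hg : ((A.h ^ k).gcd n) = 1 := ((A.hprime.coprime_iff_not_dvd.mpr hn).pow_left k).gcd_eq_one
    have := Nat.gcd_eq_gcd_ab (A.h ^ k) n
    rw [hg] at this
    rw [← zpow_one e, show (1 : ℤ) = _ from by exact_mod_cast this, zpow_add, zpow_mul, zpow_mul,
      zpow_natCast, zpow_natCast]
    exact S.mul_mem (S.zpow_mem heh _) (S.zpow_mem hen _)
  obtain ⟨t, ht, _, ⟨d, rfl⟩, htd⟩ := Subgroup.mem_sup.mp heS
  refine ⟨d⁻¹, ?_⟩
  rw [A.comm, he, ← A.τ_mul, map_inv, ← htd,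
    show (A.γ d)⁻¹ * (t * ρ d) = d⁻¹ * t from ?_, A.τ_mul, ht]
  show (A.γ d)⁻¹ * (t * (A.γ d / d)) = d⁻¹ * t
  rw [div_eq_mul_inv, mul_left_comm t, inv_mul_cancel_left, mul_comm]

/-- **The counting law.** -/
theorem law [Finite X] [Finite D] :
    Nat.card X - 1 = A.fixD.index * (Nat.card A.fixX - 1) := by
  classical
  have hcard : ∀ (Y : Type _) [Finite Y] (a : Y), Nat.card {y : Y // y ≠ a} = Nat.card Y - 1 := by
    intro Y _ a
    haveI := Fintype.ofFinite Y
    rw [Nat.card_eq_fintype_card, Nat.card_eq_fintype_card, Fintype.card_subtype_compl,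
      Fintype.card_subtype_eq]
  let Φ : (D ⧸ A.fixD) × {y : A.fixX // y ≠ 1} → {x : X // x ≠ 1} := fun p =>
    ⟨A.τ p.1.out (p.2 : A.fixX), fun h => p.2.2 (Subtype.ext
      (A.τ_injective p.1.out (h.trans (map_one _).symm)))⟩
  have hinj : Function.Injective Φ := by
    rintro ⟨c, y⟩ ⟨c', y'⟩ h
    have h1 : A.τ c.out ((y : A.fixX) : X) = A.τ c'.out ((y' : A.fixX) : X) :=
      congrArg Subtype.val h
    have hy1 : ((y : A.fixX) : X) ≠ 1 := fun e => y.2 (Subtype.ext e)
    have h2 : A.τ (c'.out⁻¹ * c.out) ((y : A.fixX) : X) = ((y' : A.fixX) : X) := by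
      rw [A.τ_mul, h1, A.τ_inv_apply]
    have h3 : c'.out⁻¹ * c.out ∈ A.fixD := (A.fixed_iff hy1 y.1.2 _).mp (by
      rw [h2]; exact y'.1.2)
    have hc : c' = c := by
      have := QuotientGroup.eq.mpr h3
      rwa [QuotientGroup.out_eq', QuotientGroup.out_eq'] at this
    subst hc
    exact Prod.ext rfl (Subtype.ext (Subtype.ext (A.τ_injective _ h1)))
  have hsurj : Function.Surjective Φ := by
    rintro ⟨x, hx⟩
    obtain ⟨d, hd⟩ := A.exists_fixed_in_orbit hx
    obtain ⟨e, he⟩ := QuotientGroup.mk_out_eq_mul A.fixD d⁻¹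
    have hy : A.σ (A.τ (e : D)⁻¹ (A.τ d x)) = A.τ (e : D)⁻¹ (A.τ d x) := by
      rw [A.comm, hd, map_inv, (e.2 : A.γ e = e)]
    refine ⟨((d⁻¹ : D), ⟨⟨_, hy⟩, fun h => hx ?_⟩), Subtype.ext ?_⟩
    · have h1 : A.τ (e : D)⁻¹ (A.τ d x) = 1 := congrArg Subtype.val h
      exact A.τ_injective _ (A.τ_injective _ (by rw [h1, map_one, map_one]))
    · show A.τ (Quotient.out _) _ = x
      rw [he, A.τ_mul, A.τ_apply_inv, A.τ_inv_apply]
  rw [← hcard X 1, ← hcard A.fixX 1, ← Nat.card_congr (Equiv.ofBijective Φ ⟨hinj, hsurj⟩),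
    Nat.card_prod]
  rfl

theorem one_lt_index [Finite D] : 1 < A.fixD.index := by
  have h0 : A.fixD.index ≠ 0 := Subgroup.index_ne_zero_of_finite
  have h1 : A.fixD.index ≠ 1 := fun h => by
    obtain ⟨d, hd⟩ := A.γ_ne
    exact hd (A.mem_fixD.mp (Subgroup.index_eq_one.mp h ▸ Subgroup.mem_top d))
  omega

variable (Y : Subgroup X) (hτ : ∀ d, ∀ y ∈ Y, A.τ d y ∈ Y) (hσ : ∀ y ∈ Y, A.σ y ∈ Y)

include hτ hσ in
theorem restrict_exists : ∃ B : Sys D Y, B.γ = A.γ ∧ ∀ y : Y, (B.σ y : X) = A.σ y := by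
  let σ' : Y →* Y := (A.σ.comp Y.subtype).codRestrict Y fun y => hσ y y.2
  have hit : ∀ (n : ℕ) (y : Y), (((⇑σ')^[n] y : Y) : X) = (⇑A.σ)^[n] (y : X) := by
    intro n
    induction n with
    | zero => intro y; rfl
    | succ n ih =>
      intro y
      rw [Function.iterate_succ_apply', Function.iterate_succ_apply', ← ih y]
      rfl
  refine ⟨{
    τ := fun d => ((A.τ d).comp Y.subtype).codRestrict Y fun y => hτ d y y.2
    σ := σ'
    γ := A.γ
    h := A.h
    hprime := A.hprime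
    τ_one := fun y => Subtype.ext (A.τ_one y)
    τ_mul := fun d e y => Subtype.ext (A.τ_mul d e y)
    σ_pow := A.σ_pow.imp fun k hk y => Subtype.ext (by rw [hit]; exact hk y)
    γ_pow := A.γ_pow
    γ_ne := A.γ_ne
    comm := fun d y => Subtype.ext (A.comm d y)
    fpf := fun d hd y hy => Subtype.ext (A.fpf d hd y (congrArg Subtype.val hy))
    orbit := fun y => (A.orbit y).imp fun d hd => Subtype.ext hd
    coprime := fun y hy => (A.coprime y fun e => hy (Subtype.ext e)).imp
      fun n hn => ⟨hn.1, fun d => Subtype.ext (hn.2 d)⟩ }, rfl, fun y => rfl⟩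

include hτ hσ in
theorem quotient_exists [Finite X] : ∃ B : Sys D (X ⧸ Y), B.γ = A.γ ∧
    ∀ x : X, B.σ x = (A.σ x : X ⧸ Y) := by
  let σ' : X ⧸ Y →* X ⧸ Y := QuotientGroup.map Y Y A.σ fun y hy => hσ y hy
  have hit : ∀ (n : ℕ) (x : X), (⇑σ')^[n] (x : X ⧸ Y) = (((⇑A.σ)^[n] x : X) : X ⧸ Y) := by
    intro n
    induction n with
    | zero => intro x; rfl
    | succ n ih =>
      intro x
      rw [Function.iterate_succ_apply', ih, Function.iterate_succ_apply']
      rfl
  refine ⟨{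
    τ := fun d => QuotientGroup.map Y Y (A.τ d) fun y hy => hτ d y hy
    σ := σ'
    γ := A.γ
    h := A.h
    hprime := A.hprime
    τ_one := fun x => QuotientGroup.induction_on x fun x => congrArg (fun z : X => (z : X ⧸ Y)) (A.τ_one x)
    τ_mul := fun d e x => QuotientGroup.induction_on x fun x =>
      congrArg (fun z : X => (z : X ⧸ Y)) (A.τ_mul d e x)
    σ_pow := A.σ_pow.imp fun k hk x => QuotientGroup.induction_on x fun x => by rw [hit, hk]
    γ_pow := A.γ_pow
    γ_ne := A.γ_ne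
    comm := fun d x => QuotientGroup.induction_on x fun x =>
      congrArg (fun z : X => (z : X ⧸ Y)) (A.comm d x)
    fpf := fun d hd x => QuotientGroup.induction_on x fun x hx => by
      have h1 : A.τ d x / x ∈ Y := QuotientGroup.eq_iff_div_mem.mp hx
      exact (QuotientGroup.eq_one_iff x).mpr (mem_of_diff_mem (A.τ d) Y (hτ d) (A.fpf d hd) h1)
    orbit := fun x => QuotientGroup.induction_on x fun x =>
      (A.orbit x).imp fun d hd => congrArg (fun z : X => (z : X ⧸ Y)) hd
    coprime := fun x => QuotientGroup.induction_on x fun x hx =>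
      (A.coprime x fun e => hx (by rw [e]; rfl)).imp
        fun n hn => ⟨hn.1, fun d => congrArg (fun z : X => (z : X ⧸ Y)) (hn.2 d)⟩ },
    rfl, fun x => rfl⟩

include hτ hσ in
/-- There are no invariant subgroups. -/
theorem irreducible [Finite X] [Finite D] : Y = ⊥ ∨ Y = ⊤ := by
  classical
  obtain ⟨B, hBγ, hBσ⟩ := A.restrict_exists Y hτ hσ
  obtain ⟨C, hCγ, hCσ⟩ := A.quotient_exists Y hτ hσ
  have hm : ∀ {Z : Type _} [CommGroup Z] (E : Sys D Z), E.γ = A.γ →
      E.fixD.index = A.fixD.index := by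
    intro Z _ E hE
    congr 1
    ext d
    rw [mem_fixD, mem_fixD, hE]
  have hY := B.law
  have hQ := C.law
  have hX := A.law
  rw [hm B hBγ] at hY
  rw [hm C hCγ] at hQ
  by_contra hne
  push Not at hne
  have hY1 : 1 < Nat.card Y := by
    have h0 : 0 < Nat.card Y := Nat.card_pos
    have h1 : Nat.card Y ≠ 1 := fun e => hne.1 (Subgroup.card_eq_one.mp e)
    omega
  have hQ1 : 1 < Nat.card (X ⧸ Y) := by
    have h0 : 0 < Nat.card (X ⧸ Y) := Nat.card_pos
    have h1 : Nat.card (X ⧸ Y) ≠ 1 := fun e => hne.2 (Subgroup.index_eq_one.mp e)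
    omega
  have hmul := Subgroup.card_eq_card_quotient_mul_card_subgroup Y
  have hfix : Nat.card A.fixX ≤ Nat.card C.fixX * Nat.card B.fixX := by
    let f : A.fixX →* X ⧸ Y := (QuotientGroup.mk' Y).comp A.fixX.subtype
    have h1 : Nat.card A.fixX = Nat.card f.range * Nat.card f.ker := by
      rw [← Subgroup.index_ker, Subgroup.index_mul_card]
    rw [h1]
    refine Nat.mul_le_mul (Nat.card_le_card_of_injective (Subgroup.inclusion ?_)
      (Subgroup.inclusion_injective _)) ?_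
    · rintro _ ⟨x, rfl⟩
      show C.σ (((x : X)) : X ⧸ Y) = _
      rw [hCσ, (x.2 : A.σ x = x)]
      rfl
    · refine Nat.card_le_card_of_injective
        (fun x => (⟨⟨((x : A.fixX) : X), (QuotientGroup.eq_one_iff _).mp x.2⟩,
          Subtype.ext ((hBσ _).trans x.1.2)⟩ : B.fixX)) fun a b h => ?_
      have e : ((a : A.fixX) : X) = ((b : A.fixX) : X) :=
        congrArg (fun z : B.fixX => ((z : Y) : X)) h
      exact Subtype.ext (Subtype.ext e)
  obtain ⟨a, ha⟩ : ∃ a, Nat.card B.fixX = a + 1 :=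
    Nat.exists_eq_succ_of_ne_zero Nat.card_pos.ne'
  obtain ⟨b, hb⟩ : ∃ b, Nat.card C.fixX = b + 1 :=
    Nat.exists_eq_succ_of_ne_zero Nat.card_pos.ne'
  obtain ⟨c, hc⟩ : ∃ c, Nat.card A.fixX = c + 1 :=
    Nat.exists_eq_succ_of_ne_zero Nat.card_pos.ne'
  rw [ha, Nat.add_sub_cancel] at hY
  rw [hb, Nat.add_sub_cancel] at hQ
  rw [hc, Nat.add_sub_cancel] at hX
  set m := A.fixD.index with hmdef
  have hm1 : 1 < m := A.one_lt_index
  have hY' : Nat.card Y = m * a + 1 := by omega
  have hQ' : Nat.card (X ⧸ Y) = m * b + 1 := by omega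
  have hX' : Nat.card X = m * c + 1 := by
    have : 0 < Nat.card X := Nat.card_pos
    omega
  rw [hY', hQ', hX'] at hmul
  rw [ha, hb, hc] at hfix
  have ha0 : 0 < a := by
    rcases Nat.eq_zero_or_pos a with h | h
    · rw [h, mul_zero] at hY'; omega
    · exact h
  have hb0 : 0 < b := by
    rcases Nat.eq_zero_or_pos b with h | h
    · rw [h, mul_zero] at hQ'; omega
    · exact h
  have hc' : c = a + b + m * (a * b) := by
    apply Nat.eq_of_mul_eq_mul_left (show 0 < m by omega)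
    nlinarith [hmul]
  have hab : 0 < a * b := Nat.mul_pos ha0 hb0
  nlinarith [hfix, hc', hm1, hab]

include A in
/-- The system has prime exponent. -/
theorem exists_prime_exponent [Finite X] [Finite D] [Nontrivial X] :
    ∃ r : ℕ, r.Prime ∧ ∀ x : X, x ^ r = 1 := by
  obtain ⟨r, hr, hrd⟩ := Nat.exists_prime_and_dvd (n := Nat.card X) Finite.one_lt_card.ne'
  haveI := Fact.mk hr
  refine ⟨r, hr, fun x => ?_⟩
  obtain ⟨y, hy⟩ := exists_prime_orderOf_dvd_card' r hrd
  have h := A.irreducible (powMonoidHom r).ker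
    (fun d y hy => MonoidHom.mem_ker.mpr (by
      rw [powMonoidHom_apply, ← map_pow, show y ^ r = 1 from MonoidHom.mem_ker.mp hy, map_one]))
    (fun y hy => MonoidHom.mem_ker.mpr (by
      rw [powMonoidHom_apply, ← map_pow, show y ^ r = 1 from MonoidHom.mem_ker.mp hy, map_one]))
  rcases h with h | h
  · exfalso
    have : y ∈ (powMonoidHom r : X →* X).ker := by
      show y ^ r = 1
      rw [← hy, pow_orderOf_eq_one]
    rw [h, Subgroup.mem_bot] at this
    rw [this, orderOf_one] at hy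
    exact hr.ne_one hy.symm
  · exact (h ▸ Subgroup.mem_top x : x ∈ (powMonoidHom r : X →* X).ker)

/-- An element of `D` fixing a nontrivial point fixes every point. -/
theorem fix_all [Finite X] [Finite D] {d : D} {x : X} (hx : x ≠ 1) (h : A.τ d x = x) (y : X) :
    A.τ d y = y := by
  have hd := A.γ_fix_of_fix hx h
  let Y : Subgroup X :=
    { carrier := {z | A.τ d z = z}
      one_mem' := map_one _
      mul_mem' := fun {a b} (ha : A.τ d a = a) (hb : A.τ d b = b) => by
        show A.τ d (a * b) = a * b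
        rw [map_mul, ha, hb]
      inv_mem' := fun {a} (ha : A.τ d a = a) => by
        show A.τ d a⁻¹ = a⁻¹
        rw [map_inv, ha] }
  rcases A.irreducible Y
      (fun e z (hz : A.τ d z = z) => show A.τ d (A.τ e z) = A.τ e z by
        rw [← A.τ_mul, mul_comm, A.τ_mul, hz])
      (fun z (hz : A.τ d z = z) => show A.τ d (A.σ z) = A.σ z by
        conv_lhs => rw [← hd]
        rw [← A.comm, hz]) with hY | hY
  · exact absurd (hY ▸ (h : x ∈ Y) : x ∈ (⊥ : Subgroup X)) (by simpa using hx)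
  · exact (hY ▸ Subgroup.mem_top y : y ∈ Y)

end Sys

/-- The order of a system of prime exponent is determined by its index. -/
theorem exponent_unique {r m u v u' v' : ℕ} (hr : r.Prime) (hm : 1 < m) (hu : 0 < u)
    (hu' : 0 < u') (h : r ^ v - 1 = m * (r ^ u - 1)) (h' : r ^ v' - 1 = m * (r ^ u' - 1)) :
    v = v' := by
  have key : ∀ {u v : ℕ}, 0 < u → r ^ v - 1 = m * (r ^ u - 1) → u < v ∧ m - 1 + r ^ v = m * r ^ u := by
    intro u v hu h
    have h1 : 1 < r ^ u := Nat.one_lt_pow hu.ne' hr.one_lt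
    have h2 : r ^ u - 1 < m * (r ^ u - 1) := lt_mul_left (by omega) hm
    have h3 : m * r ^ u = m * (r ^ u - 1) + m := by
      obtain ⟨w, hw⟩ : ∃ w, r ^ u = w + 1 := ⟨r ^ u - 1, by omega⟩
      rw [hw, Nat.add_sub_cancel, mul_add, mul_one]
    refine ⟨(Nat.pow_lt_pow_iff_right hr.one_lt).mp ?_, ?_⟩
    · omega
    · omega
  obtain ⟨huv, h1⟩ := key hu h
  obtain ⟨huv', h1'⟩ := key hu' h'
  have aux : ∀ {a b c d : ℕ}, 0 < a → a < c → a < b → m - 1 + r ^ b = m * r ^ a →
      c < d → m - 1 + r ^ d = m * r ^ c → False := by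
    intro a b c d ha hac hab e1 hcd e2
    have d1 : r ^ c ∣ m - 1 := (Nat.dvd_add_left (pow_dvd_pow r hcd.le)).mp (e2 ▸ dvd_mul_left _ _)
    have d2 : r ^ (a + 1) ∣ m * r ^ a :=
      e1 ▸ dvd_add ((pow_dvd_pow r hac).trans d1) (pow_dvd_pow r hab)
    rw [pow_succ, mul_comm (r ^ a) r] at d2
    have d3 : r ∣ m := Nat.dvd_of_mul_dvd_mul_right (pow_pos hr.pos _) d2
    have d4 : r ∣ m - 1 := (dvd_pow_self r (by omega)).trans d1
    exact hr.not_dvd_one (by
      have h5 : 1 = m - (m - 1) := by omega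
      rw [h5]
      exact Nat.dvd_sub d3 d4)
  rcases lt_trichotomy u u' with hlt | heq | hgt
  · exact (aux hu hlt huv h1 huv' h1').elim
  · subst heq
    exact Nat.pow_right_injective hr.two_le (show r ^ v = r ^ v' by omega)
  · exact (aux hu' hgt huv' h1' huv h1).elim

/-- Averaging over a Frobenius action. -/
theorem pow_card_eq_one_of_frobenius {V X : Type*} [Group V] [Fintype V] [CommGroup X]
    (a : V → X →* X) (ha1 : ∀ x, a 1 x = x) (ham : ∀ v w x, a (v * w) x = a v (a w x))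
    (f : V →* V) (b : X →* X) (o : ℕ) (ho : 0 < o) (hbo : ∀ x, (⇑b)^[o] x = x)
    (hab : ∀ v x, b (a v x) = a (f v) (b x))
    (hf : ∀ i, 0 < i → i < o → ∀ v, (⇑f)^[i] v = v → v = 1)
    (hb : ∀ x, b x = x → x = 1) (hfix : ∀ x, (∀ v, a v x = x) → x = 1) (x : X) :
    x ^ Fintype.card V = 1 := by
  classical
  have hfi : ∀ (i : ℕ) (v w : V), (⇑f)^[i] (v * w) = (⇑f)^[i] v * (⇑f)^[i] w := fun i =>
    fun v w => iterate_map_mul f i v w
  have habi : ∀ (i : ℕ) (v : V) (y : X), (⇑b)^[i] (a v y) = a ((⇑f)^[i] v) ((⇑b)^[i] y) := by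
    intro i
    induction i with
    | zero => intro v y; rfl
    | succ i ih =>
      intro v y
      simp only [Function.iterate_succ_apply', ih, hab]
  have hη : ∀ y : X, ∏ i ∈ Finset.range o, (⇑b)^[i] y = 1 := by
    intro y
    apply hb
    rw [map_prod]
    simp only [← Function.iterate_succ_apply']
    obtain ⟨o', rfl⟩ : ∃ o', o = o' + 1 := ⟨o - 1, by omega⟩
    rw [Finset.prod_range_succ, Finset.prod_range_succ' (fun i => (⇑b)^[i] y), hbo y]
    rfl
  have h0 : ∏ v : V, ∏ i ∈ Finset.range o, a v ((⇑b)^[i] (a v⁻¹ x)) = 1 :=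
    Finset.prod_eq_one fun v _ => by rw [← map_prod, hη, map_one]
  rw [Finset.prod_comm] at h0
  obtain ⟨o', rfl⟩ : ∃ o', o = o' + 1 := ⟨o - 1, by omega⟩
  rw [Finset.prod_range_succ'] at h0
  have hz : ∀ i ∈ Finset.range o', ∏ v : V, a v ((⇑b)^[i + 1] (a v⁻¹ x)) = 1 := by
    intro i hi
    have hi' : i + 1 < o' + 1 := by simpa using hi
    let δ : V → V := fun v => v * (⇑f)^[i + 1] v⁻¹
    have hδ : Function.Injective δ := by
      intro v w h
      have e : w⁻¹ * v = (⇑f)^[i + 1] (w⁻¹ * v) := by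
        have h2 : v * (⇑f)^[i + 1] v⁻¹ = w * (⇑f)^[i + 1] w⁻¹ := h
        rw [hfi]
        calc w⁻¹ * v = w⁻¹ * (v * (⇑f)^[i + 1] v⁻¹) * (⇑f)^[i + 1] v := by
              rw [iterate_map_inv, mul_assoc w⁻¹ (v * _), inv_mul_cancel_right]
          _ = _ := by rw [h2, inv_mul_cancel_left]
      exact (inv_mul_eq_one.mp (hf (i + 1) (Nat.succ_pos i) hi' _ e.symm)).symm
    have e : ∀ v, a v ((⇑b)^[i + 1] (a v⁻¹ x)) = a (δ v) ((⇑b)^[i + 1] x) := fun v => by
      rw [habi, ← ham]
    rw [Finset.prod_congr rfl fun v _ => e v,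
      Fintype.prod_bijective δ (Finite.injective_iff_bijective.mp hδ) _
        (fun u => a u ((⇑b)^[i + 1] x)) fun v => rfl]
    refine hfix _ fun w => ?_
    rw [map_prod]
    exact Fintype.prod_bijective (w * ·) (Group.mulLeft_bijective w) _ _ fun u => (ham w u _).symm
  rw [Finset.prod_eq_one hz, one_mul] at h0
  rw [← Finset.card_univ, ← Finset.prod_const]
  refine Eq.trans (Finset.prod_congr rfl fun v _ => ?_) h0
  show x = a v ((⇑b)^[0] (a v⁻¹ x))
  rw [Function.iterate_zero_apply, ← ham, mul_inv_cancel, ha1]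

end CfsgLib.TwoComponents73
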